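import Cfsg.Agent.H846.RatB.Fixed
import Cfsg.Agent.H595.Triple
import Cfsg.Agent.H672.Over
import Cfsg.Agent.Characters.GaloisIrr
import Cfsg.Agent.H672.RM.Cliff
import Cfsg.Agent.H627.BR.Over
import Cfsg.Agent.H142.GmnFinal
import Cfsg.Agent.H921.RatB.Glue
import Cfsg.Agent.H984.SLFin
import Cfsg.Agent.H60.MultA
import Cfsg.Agent.H487.SchurPerfect
import Cfsg.Agent.H627.BR.EasyCore
import Cfsg.Agent.FastGrp
import Cfsg.Agent.Prune
set_option linter.all false
prune_inst 0x7ffcfafb2be8a1dfdfff7e3ffef5dffff1accfffefdff9cbffe861bfefdf230a0b45ab878fe000fe1ee362b410b87813fd7ece7feb6bdc7ffffd5ff41ffbee0fe5f6b50031d48c3e0f382ff603f07f8e6f3ffffffffffffffffffff7ffffffbefffff3feffff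
open scoped Cfsg.Agent.FastGrp

-- part: H846/RatB/SNorm
section
/-!
# Quotients with self-normalizing Sylow subgroups (S4891, TEAM B0-RAT)
-/

set_option autoImplicit false

namespace Cfsg.Agent.H846.RatB

open Cfsg
open scoped Pointwise

variable {p : ℕ} [hp : Fact p.Prime] {T : Type*} [Group T] [Finite T]

theorem SN.up {R K : Subgroup T} (h : SN p R) (hRK : R ≤ K) : SN p K := by
  intro P y hy
  have hle : (P : Subgroup T) ≤ (P : Subgroup T) ⊔ K := le_sup_left
  have hle' : ((y • P : Sylow p T) : Subgroup T) ≤ (P : Subgroup T) ⊔ K := by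
    intro x hx
    rw [Sylow.coe_subgroup_smul, Subgroup.mem_smul_pointwise_iff_exists] at hx
    obtain ⟨z, hz, rfl⟩ := hx
    exact hy z hz
  obtain ⟨u, hu⟩ := MulAction.exists_smul_eq ↥((P : Subgroup T) ⊔ K) (P.subtype hle) ((y • P : Sylow p T).subtype hle')
  have h1 : ((u : T) • P : Sylow p T) = y • P := by
    apply Sylow.subtype_injective (hP := ?_) (hQ := hle') ?_
    · intro x hx
      rw [Sylow.coe_subgroup_smul, Subgroup.mem_smul_pointwise_iff_exists] at hx
      obtain ⟨z, hz, rfl⟩ := hx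
      exact mul_mem (mul_mem u.2 (hle hz)) (inv_mem u.2)
    · rw [← hu, Sylow.smul_subtype]
      rfl
  have h2 : ((u : T)⁻¹ * y) • P = P := by
    rw [mul_smul, ← h1, inv_smul_smul]
  have h3 : (u : T)⁻¹ * y ∈ (P : Subgroup T) ⊔ R := by
    apply h P
    intro x hx
    apply Subgroup.mem_sup_left
    have h4 : ((u : T)⁻¹ * y) * x * ((u : T)⁻¹ * y)⁻¹ ∈ ((((u : T)⁻¹ * y) • P : Sylow p T) : Subgroup T) := by
      rw [Sylow.coe_subgroup_smul]
      exact Subgroup.smul_mem_pointwise_smul x (MulAut.conj ((u : T)⁻¹ * y)) (P : Subgroup T) hx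
    rwa [h2] at h4
  have h4 : y = u * ((u : T)⁻¹ * y) := by group
  rw [h4]
  exact mul_mem u.2 (sup_le_sup_left hRK _ h3)

/-- subgroups containing a Sylow subgroup -/
theorem SN.sub {K : Subgroup T} (h : SN p K) (T1 : Subgroup T) (hK : K ≤ T1) (hi : ¬ p ∣ T1.index) :
    SN p (K.subgroupOf T1) := by
  intro P1 y hy
  have hP : IsPGroup p ((P1 : Subgroup T1).map T1.subtype) := P1.2.map _
  have hPi : ¬ p ∣ ((P1 : Subgroup T1).map T1.subtype).index := by
    rw [Subgroup.index_map_subtype, hp.out.dvd_mul]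
    rintro (h1 | h1)
    · exact P1.not_dvd_index h1
    · exact hi h1
  let P : Sylow p T := hP.toSylow hPi
  have hPc : (P : Subgroup T) = (P1 : Subgroup T1).map T1.subtype := rfl
  have hsup : ((P1 : Subgroup T1) ⊔ K.subgroupOf T1).map T1.subtype = (P : Subgroup T) ⊔ K := by
    rw [Subgroup.map_sup, Subgroup.subgroupOf_map_subtype, inf_eq_left.2 hK, hPc]
  have h1 : (y : T) ∈ (P : Subgroup T) ⊔ K := by
    apply h P
    intro x hx
    have hx' : x ∈ (P1 : Subgroup T1).map T1.subtype := hx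
    obtain ⟨z, hz, rfl⟩ := hx'
    have := hy z hz
    rw [← hsup]
    exact ⟨y * z * y⁻¹, this, rfl⟩
  rw [← hsup] at h1
  obtain ⟨z, hz, hzy⟩ := h1
  have : z = y := Subtype.ext hzy
  rw [← this]
  exact hz

theorem SN.map {T' : Type*} [Group T'] {R : Subgroup T} (h : SN p R) (f : T →* T') (hf : Function.Surjective f)
    (hk : f.ker ≤ R) : SN p (R.map f) := by
  have : Finite T' := Finite.of_surjective f hf
  intro P' y' hy'
  obtain ⟨P, hP⟩ := Sylow.mapSurjective_surjective hf p P'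
  obtain ⟨y, rfl⟩ := hf y'
  have hPc : (P' : Subgroup T') = (P : Subgroup T).map f := by rw [← hP]; rfl
  have hsup : (P' : Subgroup T') ⊔ R.map f = ((P : Subgroup T) ⊔ R).map f := by rw [hPc, Subgroup.map_sup]
  have hmem : ∀ z, f z ∈ ((P : Subgroup T) ⊔ R).map f → z ∈ (P : Subgroup T) ⊔ R := by
    rintro z ⟨w, hw, hwz⟩
    have h1 : w⁻¹ * z ∈ f.ker := by
      rw [MonoidHom.mem_ker, map_mul, map_inv, hwz, inv_mul_cancel]
    have h2 : z = w * (w⁻¹ * z) := by group
    rw [h2]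
    exact mul_mem hw (Subgroup.mem_sup_right (hk h1))
  rw [hsup]
  refine ⟨y, h P y fun x hx => hmem _ ?_, rfl⟩
  rw [← hsup, map_mul, map_mul, map_inv]
  apply hy'
  have : f x ∈ (P' : Subgroup T') := by
    rw [hPc]
    exact ⟨x, hx, rfl⟩
  exact this

theorem SN.comap {T' : Type*} [Group T'] {R : Subgroup T'} (h : SN p R) (f : T →* T') (hf : Function.Surjective f) :
    SN p (R.comap f) := by
  have : Finite T' := Finite.of_surjective f hf
  intro P y hy
  have hPc : ((P.mapSurjective hf : Sylow p T') : Subgroup T') = (P : Subgroup T).map f := rfl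
  have hsup : ((P.mapSurjective hf : Sylow p T') : Subgroup T') ⊔ R = ((P : Subgroup T) ⊔ R.comap f).map f := by
    rw [hPc, Subgroup.map_sup, Subgroup.map_comap_eq_self_of_surjective hf]
  have hmem : ∀ z, f z ∈ ((P : Subgroup T) ⊔ R.comap f).map f → z ∈ (P : Subgroup T) ⊔ R.comap f := by
    rintro z ⟨w, hw, hwz⟩
    have h1 : w⁻¹ * z ∈ R.comap f := by
      rw [Subgroup.mem_comap, map_mul, map_inv, hwz, inv_mul_cancel]
      exact one_mem R
    have h2 : z = w * (w⁻¹ * z) := by group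
    rw [h2]
    exact mul_mem hw (Subgroup.mem_sup_right h1)
  apply hmem
  rw [← hsup]
  apply h (P.mapSurjective hf) (f y)
  intro x' hx'
  have hx'' : x' ∈ (P : Subgroup T).map f := hx'
  obtain ⟨x, hx, rfl⟩ := hx''
  rw [hsup, ← map_inv, ← map_mul, ← map_mul]
  exact ⟨_, hy x hx, rfl⟩

/-- no linear characters of order prime to `p` -/
theorem SN.hom_eq_one {R : Subgroup T} (h : SN p R) {A : Type*} [CommGroup A] (δ : T →* A) (hR : ∀ r ∈ R, δ r = 1)
    {d : ℕ} (hd : ¬ p ∣ d) (hδ : ∀ x, δ x ^ d = 1) : δ = 1 := by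
  have hK : SN p δ.ker := h.up (fun r hr => hR r hr)
  obtain ⟨P⟩ : Nonempty (Sylow p T) := inferInstance
  have hP : (P : Subgroup T) ≤ δ.ker := by
    intro x hx
    obtain ⟨k, hk⟩ := P.2 ⟨x, hx⟩
    have hk' : x ^ p ^ k = 1 := congrArg Subtype.val hk
    have h1 : δ x ^ p ^ k = 1 := by rw [← map_pow, hk', map_one]
    have h2 : Nat.Coprime d (p ^ k) :=
      (Nat.Coprime.pow_right k ((Nat.coprime_comm).1 ((Nat.Prime.coprime_iff_not_dvd hp.out).2 hd)))
    have h3 := orderOf_dvd_of_pow_eq_one h1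
    have h4 := orderOf_dvd_of_pow_eq_one (hδ x)
    have h5 := Nat.dvd_gcd h4 h3
    rw [h2] at h5
    exact orderOf_eq_one_iff.1 (Nat.dvd_one.1 h5)
  ext y
  have h1 : y ∈ (P : Subgroup T) ⊔ δ.ker := by
    apply hK P
    intro x hx
    apply Subgroup.mem_sup_right
    rw [MonoidHom.mem_ker, map_mul, map_mul, map_inv, mul_comm (δ y), mul_assoc, mul_inv_cancel, mul_one]
    exact hP hx
  rw [sup_eq_right.2 hP] at h1
  exact h1

end Cfsg.Agent.H846.RatB
end

-- part: H846/RatB/Cent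
section
/-!
# Reduction to the central case, `p`-rational version (S4891, TEAM B0-RAT)
-/

set_option autoImplicit false
set_option linter.style.haveILetI false
set_option linter.unusedSectionVars false

namespace Cfsg.Agent.H846.RatB

open Cfsg
open Cfsg.Agent.Characters.Core
open Cfsg.Agent.H595.Triple Cfsg.Agent.H595.Count Cfsg.Agent.H595.Central
open Cfsg.Agent.CharDeep.ProjExt Cfsg.Agent.CharDeep.TripleCover
open Cfsg.Agent.CharactersDeep.ExtUnique (detChar_of_rep detChar_mul_hom exists_hom_mul_of_restrict_eq)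
open H700.PRat (zet zet_prim fix_adjoin mem_adjoin_of_forall fix_root)
open Cfsg.Agent.H672 (Over over_iff coe_charDegree charDegree_of_eq)
open Module

universe u

/-- the cover with determinants in the `m`-th roots of unity -/
theorem exists_cov_m {Γ : Type u} [Group Γ] [Finite Γ] (N : Subgroup Γ) [hN : N.Normal]
    (θ : IrrCharacter N) (hinv : CInv N (θ : N → ℂ)) {m : ℕ} (hm : m ≠ 0)
    (hdet : ∀ n, detChar (θ : N → ℂ) n ^ m = 1) :
    ∃ (Δ : Type u) (_ : Group Δ) (_ : Finite Δ) (π : Δ →* Γ) (s : N →* Δ) (χR : Δ → ℂ),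
      Cov N (θ : N → ℂ) Δ π s χR ∧ (∀ x, detChar χR x ^ m = 1) ∧
        ∀ z, π z = 1 → z ^ (charDegree (θ : N → ℂ) * m) = 1 := by
  obtain ⟨k, ρ, hρ, hθ⟩ := θ.2
  have hk : charDegree (θ : N → ℂ) = k := by
    apply charDegree_of_eq
    rw [← hθ, Representation.char_one]
    simp only [_root_.Module.finrank_fintype_fun_eq_card, _root_.Fintype.card_fin]
  have hinv' : ∀ (g : Γ) (n : N), ρ.character (MulAut.conjNormal g n) = ρ.character n := by
    intro g n
    rw [hθ, ← hinv g n]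
    congr 1
  have hdet' : ∀ n, LinearMap.det (ρ n) ^ m = 1 := by
    intro n
    have := hdet n
    rw [← hθ, detChar_of_rep ρ hρ] at this
    exact this
  have hV : Nontrivial (Fin k → ℂ) := ((CharDeep.LinearChar.isIrreducible_iff ρ).1 hρ).1
  let V := Fin k → ℂ
  let D : (Γ × (V →ₗ[ℂ] V)ˣ) →* ℂˣ :=
    (Units.map (LinearMap.det : (V →ₗ[ℂ] V) →* ℂ)).comp (MonoidHom.snd Γ (V →ₗ[ℂ] V)ˣ)
  let P : (Γ × (V →ₗ[ℂ] V)ˣ) →* ℂˣ := (powMonoidHom m).comp D
  let Δ : Subgroup (Γ × (V →ₗ[ℂ] V)ˣ) := intGroup ρ ⊓ P.ker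
  have hΔ : Δ ≤ intGroup ρ := inf_le_left
  have hker : ∀ x : Δ, x ∈ (proj Δ).ker → ∃ c : ℂ, (x.1.2 : V →ₗ[ℂ] V) = c • (1 : V →ₗ[ℂ] V) :=
    fun x hx => exists_scalar_of_fst_eq_one ρ hρ x.1 (hΔ x.2) hx
  have hfr : finrank ℂ V = k := by simp only [V, _root_.Module.finrank_fintype_fun_eq_card, _root_.Fintype.card_fin]
  choose c hc using hker
  have hcpow : ∀ (x : Δ) (hx : x ∈ (proj Δ).ker), c x hx ^ (k * m) = 1 := by
    intro x hx
    have h1 : P x.1 = 1 := x.2.2
    have h2 : (LinearMap.det (x.1.2 : V →ₗ[ℂ] V)) ^ m = 1 := congrArg Units.val h1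
    rw [hc x hx, LinearMap.det_smul, map_one, mul_one, ← pow_mul, hfr] at h2
    exact h2
  have hk0 : k ≠ 0 := by
    rintro rfl
    exact not_subsingleton V inferInstance
  have hkm : k * m ≠ 0 := mul_ne_zero hk0 hm
  have hfin : Finite Δ := by
    have hfin : Finite (proj Δ).ker := by
      have : NeZero (k * m) := ⟨hkm⟩
      have hroots : Finite (rootsOfUnity (k * m) ℂ) := inferInstance
      refine Finite.of_injective
        (fun x : (proj Δ).ker => (rootsOfUnity.mkOfPowEq (n := k * m)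
          (c x.1 x.2) (hcpow x.1 x.2))) ?_
      intro x y hxy
      have h3 : c x.1 x.2 = c y.1 y.2 := by
        have := congrArg (fun z : rootsOfUnity (k * m) ℂ => ((z : ℂˣ) : ℂ)) hxy
        simpa using this
      apply Subtype.ext
      apply Subtype.ext
      refine Prod.ext ?_ (Units.ext ?_)
      · exact (x.2 : proj Δ x.1 = 1).trans (y.2 : proj Δ y.1 = 1).symm
      · rw [hc x.1 x.2, hc y.1 y.2, h3]
    exact Finite.of_equiv _ (Subgroup.groupEquivQuotientProdSubgroup (s := (proj Δ).ker)).symm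
  have hsurj : Function.Surjective (proj Δ) := by
    intro g
    obtain ⟨T, hT, hTd⟩ := exists_mem_intGroup ρ hρ hinv' g 1
    refine ⟨⟨(g, T), hT, ?_⟩, rfl⟩
    show (D (g, T)) ^ m = 1
    have : D (g, T) = 1 := Units.ext hTd
    rw [this, one_pow]
  have hsec : ∀ n, sec ρ n ∈ Δ := by
    intro n
    refine ⟨sec_mem_intGroup ρ n, ?_⟩
    show (D (sec ρ n)) ^ m = 1
    apply Units.ext
    rw [Units.val_pow_eq_pow_val, Units.val_one]
    exact hdet' n
  have hcent : (proj Δ).ker ≤ Subgroup.center Δ := by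
    intro x hx
    rw [Subgroup.mem_center_iff]
    intro y
    apply Subtype.ext
    refine Prod.ext ?_ (Units.ext ?_)
    · show y.1.1 * x.1.1 = x.1.1 * y.1.1
      have : x.1.1 = 1 := hx
      rw [this, mul_one, one_mul]
    · show ((y.1.2 * x.1.2 : (V →ₗ[ℂ] V)ˣ) : V →ₗ[ℂ] V) = ((x.1.2 * y.1.2 : (V →ₗ[ℂ] V)ˣ) : _)
      rw [Units.val_mul, Units.val_mul, hc x hx, smul_mul_assoc, mul_smul_comm, one_mul, mul_one]
  let s : N →* Δ := (sec ρ).codRestrict Δ hsec
  have hRs : ∀ n, coverRep Δ (s n) = ρ n := fun n => sec_snd ρ n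
  have hirrR : (coverRep Δ).IsIrreducible := by
    refine Cfsg.Agent.CharactersDeep.IrrEquiv.isIrreducible_of_comp (coverRep Δ) s ?_
    have : (MonoidHom.comp (coverRep Δ) s : Representation ℂ N (Fin k → ℂ)) = ρ :=
      MonoidHom.ext fun n => hRs n
    rw [this]
    exact hρ
  refine ⟨Δ, inferInstance, hfin, proj Δ, s, (coverRep Δ).character, ⟨hsurj, hcent, fun n => rfl, ?_, ?_, ?_⟩, ?_, ?_⟩
  · constructor
    rintro _ ⟨n, rfl⟩ x
    exact ⟨MulAut.conjNormal x.1.1 n, Subtype.ext (conj_sec ρ x.1 (hΔ x.2) n).symm⟩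
  · exact isIrrCharacter_of_rep _ hirrR
  · intro n
    rw [← hθ]
    show LinearMap.trace ℂ _ (coverRep Δ (s n)) = LinearMap.trace ℂ _ (ρ n)
    rw [hRs]
  · intro x
    have hdx : detChar (coverRep Δ).character x = LinearMap.det (coverRep Δ x) :=
      congrFun (detChar_of_rep (coverRep Δ) hirrR) x
    rw [hdx]
    have h1 : P x.1 = 1 := x.2.2
    exact congrArg Units.val h1
  · intro z hz
    rw [hk]
    apply Subtype.ext
    refine Prod.ext ?_ (Units.ext ?_)
    · have : z.1.1 = 1 := hz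
      show (z.1.1) ^ (k * m) = 1
      rw [this, one_pow]
    · show ((z.1.2 ^ (k * m) : (V →ₗ[ℂ] V)ˣ) : V →ₗ[ℂ] V) = 1
      have hz' : z ∈ (proj Δ).ker := hz
      rw [Units.val_pow_eq_pow_val, hc z hz', smul_pow, one_pow, hcpow z hz', one_smul]

/-- **Reduction to the central case.** -/
theorem central_reduce {p : ℕ} [hp : Fact p.Prime] (hp2 : p ≠ 2) {Γ : Type u} [Group Γ] [Finite Γ] (N : Subgroup Γ)
    [hN : N.Normal] (θ : N → ℂ) (hθ : IsIrrCharacter N θ) (hinv : CInv N θ) (hd : ¬ p ∣ charDegree θ)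
    (hrat : PRatC p θ) (hSN : SN p N) :
    ∃ (Q : Type u) (_ : Group Q) (_ : Finite Q) (Z : Subgroup Q) (l : Z →* ℂˣ), Z ≤ Subgroup.center Q ∧
      ¬ p ∣ Nat.card Z ∧ Z.index = N.index ∧ SN p Z ∧
      ∀ β : Q → ℂ, IsIrrCharacter Q β → (∀ (q : Q) (z : Z), β (q * z) = β q * l z) → ¬ p ∣ charDegree β →
        PRatC p β → ∃ χ : Γ → ℂ, IsIrrCharacter Γ χ ∧ ¬ p ∣ charDegree χ ∧ PRatC p χ ∧ Over N.subtype χ θ := by
  classical
  obtain ⟨n0, hn0, hrat0⟩ := hrat
  set m := Nat.card N / p ^ (Nat.card N).factorization p with hm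
  have hpm : ¬ p ∣ m := Nat.not_dvd_ordCompl hp.out Nat.card_pos.ne'
  have hm0 : m ≠ 0 := fun h => hpm (h ▸ dvd_zero p)
  have hdet : ∀ n, detChar θ n ^ m = 1 := fun n => H700.PRat.detChar_pow_eq_one hp.out hp2 hθ hn0 hrat0 n
  obtain ⟨Δ, iΔ, fΔ, π, s, χR, h, hdetR, hker⟩ := exists_cov_m N ⟨θ, hθ⟩ hinv hm0 hdet
  set d := charDegree θ with hdd
  have hd0 : d ≠ 0 := fun h0 => hd (h0 ▸ dvd_zero p)
  have hpdm : ¬ p ∣ d * m := by
    rw [hp.out.dvd_mul]
    (clear * - p m hpm d hd; tauto)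
  have hdm0 : d * m ≠ 0 := mul_ne_zero hd0 hm0
  -- the quotient
  have hLn := h.normal
  let L : Subgroup Δ := s.range
  let mk : Δ →* Δ ⧸ L := QuotientGroup.mk' L
  have hmk : Function.Surjective mk := QuotientGroup.mk'_surjective L
  have hkmk : mk.ker = L := QuotientGroup.ker_mk' L
  let Z : Subgroup (Δ ⧸ L) := π.ker.map mk
  have hZc : Z ≤ Subgroup.center (Δ ⧸ L) := by
    rintro _ ⟨z, hz, rfl⟩
    rw [Subgroup.mem_center_iff]
    intro q
    obtain ⟨x, rfl⟩ := hmk q
    rw [← map_mul, ← map_mul, Subgroup.mem_center_iff.1 (h.ker_le hz) x]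
  have hLN : L ≤ N.comap π := by
    rintro _ ⟨n, rfl⟩
    show π (s n) ∈ N
    rw [h.section_]
    exact n.2
  have hsup : N.comap π = π.ker ⊔ L := by
    apply le_antisymm
    · intro x hx
      obtain ⟨n, z, hz, rfl⟩ := h.comap_eq x hx
      exact mul_mem (Subgroup.mem_sup_right ⟨n, rfl⟩) (Subgroup.mem_sup_left hz)
    · refine sup_le (fun x hx => ?_) hLN
      show π x ∈ N
      rw [MonoidHom.mem_ker.1 hx]
      exact one_mem N
  have hZcomap : Z.comap mk = N.comap π := by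
    rw [Subgroup.comap_map_eq, hkmk, hsup]
  have hZmap : (N.comap π).map mk = Z := by
    rw [← hZcomap, Subgroup.map_comap_eq_self_of_surjective hmk]
  have hZi : Z.index = N.index := by
    rw [← Subgroup.index_comap_of_surjective Z hmk, hZcomap,
      Subgroup.index_comap_of_surjective N h.surj]
  have hSNΔ : SN p (N.comap π) := hSN.comap π h.surj
  have hSNZ : SN p Z := by
    rw [← hZmap]
    exact hSNΔ.map mk hmk (by rw [hkmk]; exact hLN)
  -- the linear character of `Z`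
  obtain ⟨c, hc, -⟩ := Cfsg.Agent.CharactersDeep.Extraspecial.exists_central_hom h.irr
  let c' : π.ker →* ℂˣ := c.comp (Subgroup.inclusion h.ker_le)
  have hc' : ∀ (x : Δ) (z : π.ker), χR (x * z) = χR x * c' z := fun x z =>
    hc x (Subgroup.inclusion h.ker_le z)
  have hkp : ∀ z : π.ker, z ^ (d * m) = 1 := fun z => Subtype.ext (hker z z.2)
  have hcp : ∀ z : π.ker, (c' z : ℂ) ^ (d * m) = 1 := by
    intro z
    rw [← Units.val_pow_eq_pow_val, ← map_pow, hkp, map_one, Units.val_one]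
  let f : π.ker →* Z := (mk.comp π.ker.subtype).codRestrict Z (fun z => ⟨z, z.2, rfl⟩)
  have hfb : Function.Bijective f := by
    constructor
    · rw [injective_iff_map_eq_one]
      intro z hz
      have h1 : mk (z : Δ) = 1 := congrArg (fun y : Z => (y : Δ ⧸ L)) hz
      have h2 : (z : Δ) ∈ L := (QuotientGroup.eq_one_iff _).1 h1
      exact Subtype.ext (h.disj (MonoidHom.mem_ker.1 z.2) h2)
    · rintro ⟨_, z, hz, rfl⟩
      exact ⟨⟨z, hz⟩, rfl⟩
  let e : π.ker ≃* Z := MulEquiv.ofBijective f hfb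
  let l : Z →* ℂˣ := (c'⁻¹).comp e.symm.toMonoidHom
  have hl : ∀ z : π.ker, l (e z) = (c' z)⁻¹ := by
    intro z
    show (c'⁻¹) (e.symm (e z)) = _
    rw [e.symm_apply_apply]
    rfl
  have hZp : ¬ p ∣ Nat.card Z := by
    intro hdvd
    obtain ⟨z, hz⟩ := exists_prime_orderOf_dvd_card' p hdvd
    have h1 : z ^ (d * m) = 1 := by
      obtain ⟨y, rfl⟩ := e.surjective z
      rw [← map_pow, hkp, map_one]
    have h2 := orderOf_dvd_of_pow_eq_one h1
    rw [hz] at h2
    exact hpdm h2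
  -- `χR` is `p`-rational
  have hR1 : χR 1 = (d : ℂ) := by
    have := h.ext 1
    rw [map_one] at this
    rw [this, hdd, coe_charDegree hθ]
  have hRrat : PRatC p χR := by
    rw [pRatC_iff (fun g => integral_irr (isIrr_isCharacter h.irr) g)]
    have hn00 : n0 ≠ 0 := fun h0 => hn0 (h0 ▸ dvd_zero p)
    have hD0 : n0 * (d * m) ≠ 0 := mul_ne_zero hn00 hdm0
    refine ⟨n0 * (d * m), ?_, ?_⟩
    · rw [hp.out.dvd_mul]
      (clear * - hn0 hpdm; tauto)
    intro σ hσ g
    have hσθ : ∀ n, σ (θ n) = θ n := fun n =>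
      fix_adjoin σ hσ (zet_mem_of_dvd hD0 ⟨d * m, rfl⟩ (hrat0 n))
    have hσr : ∀ z : ℂ, z ^ (d * m) = 1 → σ z = z := fun z hz => fix_root hD0 σ hσ ⟨n0, mul_comm _ _⟩ hz
    have hirr' : IsIrrCharacter Δ (fun x => σ (χR x)) := Characters.GaloisIrr.isIrr_map σ h.irr
    -- the two extensions
    let θL : L → ℂ := fun y => χR y
    have hθL : IsIrrCharacter L θL := by
      refine isIrr_of_comp (s.codRestrict L fun n => ⟨n, rfl⟩) (isCharacter_comp L.subtype (isIrr_isCharacter h.irr)) ?_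
      have e1 : (θL ∘ (s.codRestrict L fun n => ⟨n, rfl⟩)) = θ := funext fun n => h.ext n
      rw [e1]
      exact hθ
    obtain ⟨δ, hδL, hδ⟩ := exists_hom_mul_of_restrict_eq L (isIrr_isCharacter h.irr) (isIrr_isCharacter hirr')
      hθL (fun y => rfl) (by
        rintro ⟨_, n, rfl⟩
        show σ (χR (s n)) = χR (s n)
        rw [h.ext, hσθ])
    have hδker : ∀ z, π z = 1 → δ z = 1 := by
      intro z hz
      have h1 := hδ z
      have h2 := hc' 1 ⟨z, hz⟩
      rw [one_mul, hR1] at h2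
      have h2' : χR z = d * c' ⟨z, hz⟩ := h2
      have h3 : σ (χR z) = χR z := by
        rw [h2', map_mul, map_natCast, hσr _ (hcp ⟨z, hz⟩)]
      have h1' : σ (χR z) = χR z * δ z := h1
      rw [h3] at h1'
      have h4 : χR z ≠ 0 := by
        rw [h2']
        exact mul_ne_zero (Nat.cast_ne_zero.2 hd0) (Units.ne_zero _)
      have h5 : ((δ z : ℂˣ) : ℂ) = 1 := by
        have : χR z * 1 = χR z * δ z := by rw [mul_one]; exact h1'
        exact (mul_left_cancel₀ h4 this).symm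
      exact Units.ext h5
    have hδN : ∀ r ∈ N.comap π, δ r = 1 := by
      intro r hr
      obtain ⟨n, z, hz, rfl⟩ := h.comap_eq r hr
      rw [map_mul, hδL _ ⟨n, rfl⟩, hδker z hz, one_mul]
    have hδd : ∀ x, δ x ^ d = 1 := by
      intro x
      have h1 := H700.PRat.detChar_map σ h.irr x
      have h2 : (fun x => σ (χR x)) = fun x => χR x * δ x := funext hδ
      rw [h2, detChar_mul_hom h.irr hR1] at h1
      have h3 : σ (detChar χR x) = detChar χR x := by
        apply hσr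
        rw [mul_comm, pow_mul, hdetR, one_pow]
      rw [h3] at h1
      have h4 : detChar χR x ≠ 0 := by
        intro h0
        have := hdetR x
        rw [h0, zero_pow hm0] at this
        exact zero_ne_one this
      have h5 : detChar χR x * (δ x : ℂ) ^ d = detChar χR x * 1 := by rw [mul_one]; exact h1
      have h6 := mul_left_cancel₀ h4 h5
      apply Units.ext
      rw [Units.val_pow_eq_pow_val, Units.val_one]
      exact h6
    have hδ1 : δ = 1 := hSNΔ.hom_eq_one δ hδN hd hδd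
    have := hδ g
    rw [hδ1] at this
    simpa using this
  refine ⟨Δ ⧸ L, inferInstance, inferInstance, Z, l, hZc, hZp, hZi, hSNZ, ?_⟩
  intro β hβ hβl hβd hβr
  -- the product character
  have hχN : IsIrrCharacter N (fun n => χR (s n)) := by
    have : (fun n => χR (s n)) = θ := funext h.ext
    rw [this]
    exact hθ
  have hirr : IsIrrCharacter Δ (fun x => β (mk x) * χR x) := by
    refine isIrr_mul_inflate L (χ := χR) h.irr ?_ (isIrr_comp mk hmk hβ) ?_
    · exact isIrr_of_comp (s.codRestrict L fun n => ⟨n, rfl⟩) (isCharacter_comp L.subtype (isIrr_isCharacter h.irr)) hχN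
    · intro x hx
      have h1 : mk x = 1 := (QuotientGroup.eq_one_iff _).2 hx
      show β (mk x) = β (mk 1)
      rw [h1, map_one]
  obtain ⟨χ, hχ⟩ := descend π h.surj ⟨_, hirr⟩ (by
    intro x k hk
    have h1 : mk k = ((e ⟨k, hk⟩ : Z) : Δ ⧸ L) := rfl
    show β (mk (x * k)) * χR (x * k) = β (mk x) * χR x
    rw [map_mul, h1, hβl, hl]
    have h2 : χR (x * k) = χR x * c' ⟨k, hk⟩ := hc' x ⟨k, hk⟩
    rw [h2, Units.val_inv_eq_inv_val]
    have h3 : ((c' ⟨k, hk⟩ : ℂˣ) : ℂ) ≠ 0 := Units.ne_zero _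
    field_simp)
  have hχN' : ∀ n : N, (χ : Γ → ℂ) n = β 1 * θ n := by
    intro n
    have h1 := hχ (s n)
    rw [h.section_] at h1
    rw [h1]
    show β (mk (s n)) * χR (s n) = β 1 * θ n
    have h2 : mk (s n) = 1 := (QuotientGroup.eq_one_iff _).2 ⟨n, rfl⟩
    rw [h2, h.ext]
  refine ⟨χ, χ.2, ?_, ?_, ?_⟩
  · have h1 : charDegree (χ : Γ → ℂ) = charDegree β * d := by
      apply charDegree_of_eq
      have := hχN' 1
      rw [Subgroup.coe_one] at this
      rw [this, ← coe_charDegree hβ, ← coe_charDegree hθ]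
      push_cast
      rfl
    rw [h1, hp.out.dvd_mul]
    (clear * - hd hβd; tauto)
  · have h1 : PRatC p (fun x : Δ => β (mk x) * χR x) := (hβr.comp mk).mul hp.out hRrat
    refine h1.of_range fun g => ?_
    obtain ⟨x, rfl⟩ := h.surj g
    exact ⟨x, hχ x⟩
  · letI := Fintype.ofFinite N
    rw [over_iff]
    have e1 : ((χ : Γ → ℂ) ∘ N.subtype) = β 1 • θ := by
      funext n
      exact hχN' n
    rw [e1, classInner_smul_left, classInner_irr_self hθ, mul_one]
    exact isIrr_apply_one_ne_zero hβ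

end Cfsg.Agent.H846.RatB
end

-- part: H846/RatB/Lem
section
/-!
# Lemma L (S4891, TEAM B0-RAT)
-/

set_option autoImplicit false
set_option linter.style.haveILetI false
set_option linter.unusedSectionVars false

namespace Cfsg.Agent.H846.RatB

open Cfsg
open scoped Pointwise
open Cfsg.Agent.Characters.Core
open Cfsg.Agent.H595.Count Cfsg.Agent.H595.Central
open Cfsg.Agent.OddOrderCharacters
open Cfsg.Agent.H672 (Over over_iff coe_charDegree charDegree_of_eq)

universe u

theorem SN_of_one {p : ℕ} [hp : Fact p.Prime] {T : Type*} [Group T] [Finite T] (P0 : Sylow p T) (R : Subgroup T)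
    [hR : R.Normal] (h : ∀ y : T, (∀ x ∈ (P0 : Subgroup T), y * x * y⁻¹ ∈ (P0 : Subgroup T) ⊔ R) →
      y ∈ (P0 : Subgroup T) ⊔ R) : SN p R := by
  intro P y hy
  obtain ⟨g, hg⟩ := MulAction.exists_smul_eq T P0 P
  have hPc : (P : Subgroup T) = MulAut.conj g • (P0 : Subgroup T) := by rw [← hg]; rfl
  have hmem : ∀ z : T, z ∈ (P : Subgroup T) ⊔ R ↔ g⁻¹ * z * g ∈ (P0 : Subgroup T) ⊔ R := by
    intro z
    have h1 : (P : Subgroup T) ⊔ R = MulAut.conj g • ((P0 : Subgroup T) ⊔ R) := by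
      rw [Subgroup.smul_sup, ← hPc, Subgroup.Normal.conj_smul_eq_self g R]
    rw [h1, Subgroup.mem_pointwise_smul_iff_inv_smul_mem, ← map_inv]
    show g⁻¹ * z * g⁻¹⁻¹ ∈ _ ↔ _
    rw [inv_inv]
  rw [hmem]
  apply h
  intro x hx
  have h2 : g * x * g⁻¹ ∈ (P : Subgroup T) := by
    rw [hPc]
    exact Subgroup.smul_mem_pointwise_smul x (MulAut.conj g) (P0 : Subgroup T) hx
  have h3 := (hmem _).1 (hy _ h2)
  have h4 : g⁻¹ * y * g * x * (g⁻¹ * y * g)⁻¹ = g⁻¹ * (y * (g * x * g⁻¹) * y⁻¹) * g := by group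
  rw [h4]
  exact h3

/-- the conclusion of Lemma L -/
def Good (p : ℕ) {Γ : Type u} [Group Γ] [Finite Γ] (N : Subgroup Γ) (ψ : N → ℂ) : Prop :=
  ∃ χ : Γ → ℂ, IsIrrCharacter Γ χ ∧ ¬ p ∣ charDegree χ ∧ PRatC p χ ∧ Over N.subtype χ ψ

/-- Lemma L for index `≤ n` -/
def LemP (p : ℕ) (n : ℕ) : Prop :=
  ∀ (Γ : Type u) [Group Γ] [Finite Γ] (N : Subgroup Γ) [hN : N.Normal] (P : Sylow p Γ) (ψ : N → ℂ),
    N.index ≤ n → IsIrrCharacter N ψ → ¬ p ∣ charDegree ψ → PRatC p ψ → SN p N →
    (∀ x ∈ P, ∀ k : N, ψ ⟨x * k * x⁻¹, hN.conj_mem k k.2 x⟩ = ψ k) → Good p N ψ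

/-- Lemma L for invariant characters and index `≤ n` -/
def LemI (p : ℕ) (n : ℕ) : Prop :=
  ∀ (Γ : Type u) [Group Γ] [Finite Γ] (N : Subgroup Γ) [hN : N.Normal] (ψ : N → ℂ),
    N.index ≤ n → IsIrrCharacter N ψ → ¬ p ∣ charDegree ψ → PRatC p ψ → SN p N → CInv N ψ → Good p N ψ

/-- Lemma L for central subgroups and index `≤ n` -/
def LemC (p : ℕ) (n : ℕ) : Prop :=
  ∀ (Q : Type u) [Group Q] [Finite Q] (Z : Subgroup Q) (l : Z →* ℂˣ), Z.index ≤ n → Z ≤ Subgroup.center Q →
    ¬ p ∣ Nat.card Z → SN p Z → ∃ β : Q → ℂ, IsIrrCharacter Q β ∧ (∀ (q : Q) (z : Z), β (q * z) = β q * l z) ∧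
      ¬ p ∣ charDegree β ∧ PRatC p β

variable {p : ℕ} [hp : Fact p.Prime]

theorem LemC.lemI (hp2 : p ≠ 2) {n : ℕ} (h : LemC.{u} p n) : LemI.{u} p n := by
  intro Γ _ _ N hN ψ hi hψ hd hr hs hinv
  obtain ⟨Q, iQ, fQ, Z, l, hZc, hZp, hZi, hZs, hall⟩ := central_reduce hp2 N ψ hψ hinv hd hr hs
  obtain ⟨β, h1, h2, h3, h4⟩ := h Q Z l (hZi.trans_le hi) hZc hZp hZs
  exact hall β h1 h2 h3 h4

theorem LemI.lemP {n : ℕ} (h : LemI.{u} p n) : LemP.{u} p n := by
  classical
  intro Γ _ _ N hN P ψ hi hψ hd hr hs hinv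
  letI := Fintype.ofFinite Γ
  let T := H672.inertia N ψ
  have hNT : N ≤ T := H672.le_inertia (isIrr_isClassFunction hψ)
  have hPT : (P : Subgroup Γ) ≤ T := by
    intro x hx
    rw [H672.mem_inertia_iff]
    exact hinv x hx
  have hTi : ¬ p ∣ T.index := fun hd => P.not_dvd_index (hd.trans (Subgroup.index_dvd_of_le hPT))
  let N' := N.subgroupOf T
  have hN' : N'.Normal := hN.subgroupOf T
  let e : N ≃* N' := (Subgroup.subgroupOfEquivOfLe hNT).symm
  let ψ' : N' → ℂ := fun x => ψ ⟨x.1.1, x.2⟩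
  have hψe : ψ' ∘ e = ψ := by
    funext x
    rfl
  have hψ' : IsIrrCharacter N' ψ' := by
    have h1 := isIrr_comp e.symm.toMonoidHom e.symm.surjective hψ
    have h2 : ψ ∘ e.symm.toMonoidHom = ψ' := by
      funext x
      rfl
    rw [← h2]
    exact h1
  have hdeg : charDegree ψ' = charDegree ψ := by
    apply charDegree_of_eq
    rw [coe_charDegree hψ]
    rfl
  have hi' : N'.index ≤ n := by
    refine le_trans (Nat.le_of_dvd (Nat.pos_of_ne_zero N.index_ne_zero_of_finite) ?_) hi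
    rw [← Subgroup.relIndex_mul_index hNT]
    exact Dvd.intro _ rfl
  obtain ⟨χ, h1, h2, h3, h4⟩ := h T N' ψ' hi' hψ' (by rw [hdeg]; exact hd) (hr.comp _) (hs.sub T hNT hTi) (by
    intro x k
    have h5 : (x : Γ) ∈ H672.inertia N ψ := x.2
    rw [H672.mem_inertia_iff] at h5
    exact h5 ⟨k.1.1, k.2⟩)
  have h5 : Over (Subgroup.inclusion hNT) χ ψ := by
    have h6 := (H672.over_comp_equiv N'.subtype e χ ψ').2 h4
    rw [hψe] at h6
    exact h6
  have hT' := H672.RM.mem_iff_conjFn N T rfl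
  letI := Fintype.ofFinite N
  letI := Fintype.ofFinite T
  have h6 : IsIrrCharacter Γ (indFun T χ) :=
    PF9.CliffGen.irr_ind hψ hT' hNT h1 ((H672.RM.over_resTo hNT _ _).1 h5)
  refine ⟨indFun T χ, h6, ?_, h3.indFun T, H672.RM.over_indFun N hψ T hNT h1 h6 h5⟩
  rw [H672.charDegree_indFun T h1 rfl, hp.out.dvd_mul]
  (clear * - hTi h2; tauto)

end Cfsg.Agent.H846.RatB
end

-- part: H846/RatB/LemC
section
/-!
# Lemma L: the central case (S4891, TEAM B0-RAT)
-/

set_option autoImplicit false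
set_option linter.style.haveILetI false
set_option linter.unusedSectionVars false
set_option linter.unusedVariables false

namespace Cfsg.Agent.H846.RatB

open Cfsg
open scoped Pointwise
open Cfsg.Agent.Characters.Core
open Cfsg.Agent.H595.Count Cfsg.Agent.H595.Central
open Cfsg.Agent.H672 (Over over_iff coe_charDegree charDegree_of_eq)

universe u

variable {p : ℕ} [hp : Fact p.Prime]

/-- characters over a character with given action of the central subgroup `Z` -/
theorem over_lift {Q : Type*} [Group Q] [Finite Q] {Z K : Subgroup Q} (hZc : Z ≤ Subgroup.center Q) (hZK : Z ≤ K)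
    (l : Z →* ℂˣ) {ξ : K → ℂ} (hξ : IsIrrCharacter K ξ) (hl : ∀ (z : Z) (k : K), ξ (k * ⟨z, hZK z.2⟩) = ξ k * l z)
    {χ : Q → ℂ} (hχ : IsIrrCharacter Q χ) (ho : Over K.subtype χ ξ) (q : Q) (z : Z) : χ (q * z) = χ q * l z := by
  classical
  letI := Fintype.ofFinite Q
  letI := Fintype.ofFinite Z
  have h1 : Over (Subgroup.inclusion hZK) ξ (homIrr l : Z → ℂ) := by
    rw [over_iff]
    have e1 : ξ ∘ (Subgroup.inclusion hZK) = ξ 1 • (homIrr l : Z → ℂ) := by
      funext z
      have := hl z 1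
      rw [one_mul] at this
      exact this
    rw [e1, classInner_smul_left, classInner_irr_self (homIrr l).2, mul_one]
    exact isIrr_apply_one_ne_zero hξ
  have h2 : Over (K.subtype.comp (Subgroup.inclusion hZK)) χ (homIrr l : Z → ℂ) :=
    (H672.over_comp_iff _ _ (isIrr_isCharacter hχ) (homIrr l).2).2 ⟨ξ, hξ, ho, h1⟩
  rw [over_iff] at h2
  exact over_central (K.subtype.comp (Subgroup.inclusion hZK)) (fun n => hZc n.2) ⟨χ, hχ⟩ l h2 q z

/-- from a `P`-invariant character of a normal subgroup `K > Z` -/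
theorem lemC_lift {n : ℕ} (hP : LemP.{u} p n) {Q : Type u} [Group Q] [Finite Q] {Z K : Subgroup Q}
    [hK : K.Normal] (l : Z →* ℂˣ) (hi : Z.index ≤ n + 1) (hZc : Z ≤ Subgroup.center Q) (hZK : Z < K) (hs : SN p Z)
    (P : Sylow p Q) {ξ : K → ℂ} (hξ : IsIrrCharacter K ξ)
    (hl : ∀ (z : Z) (k : K), ξ (k * ⟨z, hZK.le z.2⟩) = ξ k * l z) (hd : ¬ p ∣ charDegree ξ) (hr : PRatC p ξ)
    (hinv : ∀ x ∈ P, ∀ k : K, ξ ⟨x * k * x⁻¹, hK.conj_mem k k.2 x⟩ = ξ k) :
    ∃ β : Q → ℂ, IsIrrCharacter Q β ∧ (∀ (q : Q) (z : Z), β (q * z) = β q * l z) ∧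
      ¬ p ∣ charDegree β ∧ PRatC p β := by
  have h1 : K.index ≤ n := by
    have := Subgroup.index_strictAnti hZK
    omega
  obtain ⟨χ, h2, h3, h4, h5⟩ := hP Q K P ξ h1 hξ hd hr (hs.up hZK.le) hinv
  exact ⟨χ, h2, over_lift hZc hZK.le l hξ hl h2 h5, h3, h4⟩

/-- normal subgroups of order prime to `p` -/
theorem lemC_coprime {n : ℕ} (hP : LemP.{u} p n) {Q : Type u} [Group Q] [Finite Q] {Z K : Subgroup Q}
    [hK : K.Normal] (l : Z →* ℂˣ) (hi : Z.index ≤ n + 1) (hZc : Z ≤ Subgroup.center Q) (hZK : Z < K) (hs : SN p Z)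
    (hKp : ¬ p ∣ Nat.card K) :
    ∃ β : Q → ℂ, IsIrrCharacter Q β ∧ (∀ (q : Q) (z : Z), β (q * z) = β q * l z) ∧
      ¬ p ∣ charDegree β ∧ PRatC p β := by
  classical
  obtain ⟨P⟩ : Nonempty (Sylow p Q) := inferInstance
  letI := Fintype.ofFinite K
  let H : Subgroup K := Z.subgroupOf K
  letI := Fintype.ofFinite H
  let j : H →* Z := (K.subtype.comp H.subtype).codRestrict Z (fun x => x.2)
  let l' : H →* ℂˣ := l.comp j
  have hHc : ∀ x : H, H.subtype x ∈ Subgroup.center K := by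
    intro x
    rw [Subgroup.mem_center_iff]
    intro k
    apply Subtype.ext
    exact Subgroup.mem_center_iff.1 (hZc x.2) k
  have hdeg : charDegree (homIrr l' : H → ℂ) = 1 := by
    apply charDegree_of_eq
    rw [homIrr_apply, map_one, Units.val_one, Nat.cast_one]
  have hindex : ¬ p ∣ H.index := fun h => hKp (h.trans H.index_dvd_card)
  obtain ⟨ξ, h1, h2, h3, h4⟩ := exists_fixed_over (p := p) P.2
    ((MulAut.conjNormal : Q →* MulAut K).comp (P : Subgroup Q).subtype) H hindex (homIrr l').2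
    (by rw [hdeg]; exact fun h => hp.out.one_lt.ne' (Nat.dvd_one.1 h)) (by
      intro a k
      by_cases hk : k ∈ H
      · have h5 : (((MulAut.conjNormal : Q →* MulAut K).comp (P : Subgroup Q).subtype) a) k = k := by
          apply Subtype.ext
          have h6 : (a : Q) * (k : Q) = (k : Q) * (a : Q) := Subgroup.mem_center_iff.1 (hZc hk) a
          show (a : Q) * k * (a : Q)⁻¹ = k
          rw [h6, mul_inv_cancel_right]
        rw [h5]
      · rw [CharactersDeep.IndFun.extendByZero_notMem H _ hk, CharactersDeep.IndFun.extendByZero_notMem H]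
        intro h5
        apply hk
        have h6 : (a : Q) * k * (a : Q)⁻¹ ∈ Z := h5
        have h7 := Subgroup.mem_center_iff.1 (hZc h6) (a : Q)⁻¹
        have h8 : (k : Q) = (a : Q) * k * (a : Q)⁻¹ := by
          have h9 : (k : Q) * (a : Q)⁻¹ = (a : Q) * k * (a : Q)⁻¹ * (a : Q)⁻¹ := by
            rw [← h7]
            group
          exact mul_right_cancel h9
        show (k : Q) ∈ Z
        rw [h8]
        exact h6)
  rw [over_iff] at h3
  refine lemC_lift hP l hi hZc hZK hs P h1 ?_ h4 (pRatC_of_coprime hKp (isIrr_isCharacter h1)) ?_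
  · intro z k
    exact over_central H.subtype hHc ⟨ξ, h1⟩ l' h3 k ⟨⟨z, hZK.le z.2⟩, z.2⟩
  · intro x hx k
    exact h2 ⟨x, hx⟩ k

/-- the commutators of `K` lie in the central subgroup `Z` of order prime to `p`: the `p`-elements form a normal
subgroup -/
theorem exists_pgroup {Q : Type*} [Group Q] [Finite Q] {Z K : Subgroup Q} [hK : K.Normal]
    (hZc : Z ≤ Subgroup.center Q) (hc : ∀ x ∈ K, ∀ y ∈ K, x * y * x⁻¹ * y⁻¹ ∈ Z) (hpK : p ∣ Nat.card K) :
    ∃ U : Subgroup Q, U.Normal ∧ IsPGroup p U ∧ U ≠ ⊥ := by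
  have hnil : Group.IsNilpotent K := by
    have hn : (Z.subgroupOf K).Normal := by
      constructor
      intro z hz g
      have h1 : g * z * g⁻¹ = z := by
        apply Subtype.ext
        have h2 : (g : Q) * (z : Q) = (z : Q) * (g : Q) := Subgroup.mem_center_iff.1 (hZc hz) g
        show (g : Q) * z * (g : Q)⁻¹ = z
        rw [h2, mul_inv_cancel_right]
      rw [h1]
      exact hz
    have hcomm : ∀ a b : K ⧸ Z.subgroupOf K, a * b = b * a := by
      intro a b
      obtain ⟨x, rfl⟩ := QuotientGroup.mk'_surjective (Z.subgroupOf K) a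
      obtain ⟨y, rfl⟩ := QuotientGroup.mk'_surjective (Z.subgroupOf K) b
      rw [← map_mul, ← map_mul, eq_comm]
      apply (QuotientGroup.eq).2
      have h1 : (y * x)⁻¹ * (x * y) = (x⁻¹ * y⁻¹ * x * y : K) := by group
      rw [h1]
      have h2 := hc (x : Q)⁻¹ (inv_mem x.2) (y : Q)⁻¹ (inv_mem y.2)
      rw [inv_inv, inv_inv] at h2
      exact h2
    letI : CommGroup (K ⧸ Z.subgroupOf K) := { (inferInstance : Group (K ⧸ Z.subgroupOf K)) with mul_comm := hcomm }
    refine Subgroup.isNilpotent_of_ker_le_center (QuotientGroup.mk' (Z.subgroupOf K)) ?_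
    rw [QuotientGroup.ker_mk']
    intro x hx
    rw [Subgroup.mem_center_iff]
    intro g
    apply Subtype.ext
    exact Subgroup.mem_center_iff.1 (hZc hx) g
  obtain ⟨S⟩ : Nonempty (Sylow p K) := inferInstance
  have hSn : (S : Subgroup K).Normal := Group.isNilpotent_of_finite_tfae.out 0 3 rfl rfl |>.mp hnil p hp S
  have hSc : (S : Subgroup K).Characteristic := S.characteristic_of_normal hSn
  refine ⟨(S : Subgroup K).map K.subtype, inferInstance, S.2.map _, ?_⟩
  intro h0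
  rw [Subgroup.map_eq_bot_iff, Subgroup.ker_subtype, le_bot_iff] at h0
  have h1 := S.dvd_card_of_dvd_card hpK
  rw [h0, Subgroup.card_bot] at h1
  exact hp.out.one_lt.ne' (Nat.dvd_one.1 h1)

theorem lemC_step (hL : LayerTask.{u} p) {n : ℕ} (hP : LemP.{u} p n) (hC : LemC.{u} p n) : LemC.{u} p (n + 1) := by
  classical
  intro Q _ _ Z l hi hZc hZp hs
  -- (A)
  by_cases hZ : Z = ⊤
  · let δ : Q →* ℂˣ := l.comp ((MonoidHom.id Q).codRestrict Z (fun q => by rw [hZ]; exact Subgroup.mem_top q))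
    refine ⟨fun q => (δ q : ℂ), isIrr_hom δ, ?_, ?_, ?_⟩
    · intro q z
      show ((δ (q * z) : ℂˣ) : ℂ) = (δ q : ℂ) * l z
      rw [map_mul, Units.val_mul]
      rfl
    · have : charDegree (fun q => (δ q : ℂ)) = 1 := by
        apply charDegree_of_eq
        rw [map_one, Units.val_one, Nat.cast_one]
      rw [this]
      exact fun h => hp.out.one_lt.ne' (Nat.dvd_one.1 h)
    · refine pRatC_of_coprime ?_ (isIrr_isCharacter (isIrr_hom δ))
      rw [hZ, Subgroup.card_top] at hZp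
      exact hZp
  -- (B)
  by_cases hU : ∃ U : Subgroup Q, U.Normal ∧ IsPGroup p U ∧ U ≠ ⊥
  · obtain ⟨U, hUn, hUp, hU1⟩ := hU
    let mk : Q →* Q ⧸ U := QuotientGroup.mk' U
    have hmk : Function.Surjective mk := QuotientGroup.mk'_surjective U
    have hkmk : mk.ker = U := QuotientGroup.ker_mk' U
    let Zb : Subgroup (Q ⧸ U) := Z.map mk
    let f : Z →* Zb := (mk.comp Z.subtype).codRestrict Zb (fun z => ⟨z, z.2, rfl⟩)
    have hfb : Function.Bijective f := by
      constructor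
      · rw [injective_iff_map_eq_one]
        intro z hz
        have h1 : mk (z : Q) = 1 := congrArg (fun y : Zb => (y : Q ⧸ U)) hz
        have h2 : (z : Q) ∈ U := (QuotientGroup.eq_one_iff _).1 h1
        obtain ⟨k, hk⟩ := hUp ⟨z, h2⟩
        have h3 : z ^ p ^ k = 1 := by
          apply Subtype.ext
          have := congrArg Subtype.val hk
          simpa only [_root_.SubmonoidClass.coe_pow, _root_.OneMemClass.coe_one, _root_.SubmonoidClass.mk_pow] using this
        have h4 := orderOf_dvd_of_pow_eq_one h3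
        have h5 := Nat.dvd_gcd h4 (orderOf_dvd_natCard z)
        have h6 : Nat.gcd (p ^ k) (Nat.card Z) = 1 :=
          Nat.Coprime.pow_left k ((Nat.Prime.coprime_iff_not_dvd hp.out).2 hZp)
        rw [h6] at h5
        exact orderOf_eq_one_iff.1 (Nat.dvd_one.1 h5)
      · rintro ⟨_, z, hz, rfl⟩
        exact ⟨⟨z, hz⟩, rfl⟩
    let e : Z ≃* Zb := MulEquiv.ofBijective f hfb
    have hlt : Z < Z ⊔ U := by
      refine lt_of_le_of_ne le_sup_left fun h0 => hU1 ?_
      have h1 : U ≤ Z := by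
        rw [h0]
        exact le_sup_right
      rw [eq_bot_iff]
      intro x hx
      have h2 : (⟨x, h1 hx⟩ : Z) = 1 := by
        apply hfb.1
        rw [map_one]
        apply Subtype.ext
        exact (QuotientGroup.eq_one_iff x).2 hx
      exact congrArg Subtype.val h2
    have hZbc : Zb ≤ Subgroup.center (Q ⧸ U) := by
      rintro _ ⟨z, hz, rfl⟩
      rw [Subgroup.mem_center_iff]
      intro q
      obtain ⟨x, rfl⟩ := hmk q
      rw [← map_mul, ← map_mul, Subgroup.mem_center_iff.1 (hZc hz) x]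
    have hZbi : Zb.index = (Z ⊔ U).index := by
      show (Z.map mk).index = _
      rw [Subgroup.index_map, hkmk, MonoidHom.range_eq_top_of_surjective mk hmk, Subgroup.index_top, mul_one]
    have hZbm : (Z ⊔ U).map mk = Zb := by
      rw [Subgroup.map_sup]
      have h1 : U.map mk = ⊥ := by
        rw [Subgroup.map_eq_bot_iff, hkmk]
      rw [h1, sup_bot_eq]
    have hsb : SN p Zb := by
      rw [← hZbm]
      exact (hs.up hlt.le).map mk hmk (by rw [hkmk]; exact le_sup_right)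
    have h1 : Zb.index ≤ n := by
      rw [hZbi]
      have := Subgroup.index_strictAnti hlt
      omega
    have h2 : ¬ p ∣ Nat.card Zb := by
      rw [← Nat.card_congr e.toEquiv]
      exact hZp
    obtain ⟨β, h3, h4, h5, h6⟩ := hC (Q ⧸ U) Zb (l.comp e.symm.toMonoidHom) h1 hZbc h2 hsb
    refine ⟨fun q => β (mk q), isIrr_comp mk hmk h3, ?_, ?_, h6.comp mk⟩
    · intro q z
      have h7 := h4 (mk q) (e z)
      have h8 : (l.comp e.symm.toMonoidHom) (e z) = l z := by
        show l (e.symm (e z)) = l z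
        rw [e.symm_apply_apply]
      rw [h8] at h7
      show β (mk (q * z)) = β (mk q) * l z
      rw [map_mul]
      exact h7
    · have h7 : charDegree (fun q => β (mk q)) = charDegree β := by
        apply charDegree_of_eq
        rw [map_one, coe_charDegree h3]
      rw [h7]
      exact h5
  -- (C)
  by_cases hK : ∃ K : Subgroup Q, K.Normal ∧ Z < K ∧ ¬ p ∣ Nat.card K
  · obtain ⟨K, hKn, hZK, hKp⟩ := hK
    exact lemC_coprime hP l hi hZc hZK hs hKp
  -- (D)
  obtain ⟨K, hKmem, hKmin⟩ := (Set.toFinite {K : Subgroup Q | K.Normal ∧ Z < K}).exists_minimal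
    ⟨⊤, inferInstance, lt_top_iff_ne_top.2 hZ⟩
  obtain ⟨hKn, hZK⟩ := hKmem
  have hchief : ∀ M : Subgroup Q, M.Normal → Z ≤ M → M ≤ K → M = Z ∨ M = K := by
    intro M hM hZM hMK
    by_cases h : M = Z
    · exact Or.inl h
    · exact Or.inr (le_antisymm hMK (hKmin ⟨hM, lt_of_le_of_ne hZM (Ne.symm h)⟩ hMK))
  have hKp : p ∣ Nat.card K := by
    by_contra h
    exact hK ⟨K, hKn, hZK, h⟩
  have hrel : p ∣ Z.relIndex K := by
    have h1 : Nat.card Z * Z.relIndex K = Nat.card K := by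
      have h2 := Subgroup.relIndex_mul_relIndex ⊥ Z K bot_le hZK.le
      rwa [Subgroup.relIndex_bot_left, Subgroup.relIndex_bot_left] at h2
    rw [← h1, hp.out.dvd_mul] at hKp
    exact hKp.resolve_left hZp
  have hna : ∃ x ∈ K, ∃ y ∈ K, x * y * x⁻¹ * y⁻¹ ∉ Z := by
    by_contra h
    push Not at h
    exact hU (exists_pgroup hZc h hKp)
  obtain ⟨P⟩ : Nonempty (Sylow p Q) := inferInstance
  obtain ⟨ψ, h1, h2, h3, h4, h5⟩ := hL Q Z K hZK.le hZc hZp hchief hna hrel hs l P
  exact lemC_lift hP l hi hZc hZK hs P h1 h2 h3 h4 h5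

theorem lemC (hp2 : p ≠ 2) (hL : LayerTask.{u} p) (n : ℕ) : LemC.{u} p n := by
  induction n with
  | zero =>
    intro Q _ _ Z l hi
    exact absurd (Nat.le_zero.1 hi) Z.index_ne_zero_of_finite
  | succ n ih => exact lemC_step hL (ih.lemI hp2).lemP ih

/-- **Lemma L** -/
theorem lemL (hp2 : p ≠ 2) (hL : LayerTask.{u} p) {Γ : Type u} [Group Γ] [Finite Γ] (N : Subgroup Γ) [hN : N.Normal]
    (P : Sylow p Γ) {ψ : N → ℂ} (hψ : IsIrrCharacter N ψ) (hd : ¬ p ∣ charDegree ψ) (hr : PRatC p ψ) (hs : SN p N)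
    (hinv : ∀ x ∈ P, ∀ k : N, ψ ⟨x * k * x⁻¹, hN.conj_mem k k.2 x⟩ = ψ k) :
    ∃ χ : Γ → ℂ, IsIrrCharacter Γ χ ∧ ¬ p ∣ charDegree χ ∧ PRatC p χ ∧ Over N.subtype χ ψ :=
  ((lemC hp2 hL N.index).lemI hp2).lemP Γ N P ψ le_rfl hψ hd hr hs hinv

end Cfsg.Agent.H846.RatB
end

-- part: H846/RatB/LemL
section
/-!
# Lemma L in the form of tools/plans/S4891_red.lean.txt (S4891, TEAM B0-RAT)
-/

set_option autoImplicit false
set_option linter.unusedSectionVars false

open Subgroup

namespace Cfsg.Agent.H846.RatB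

open Cfsg Cfsg.Agent.H145.BR
open Cfsg.Agent.H627.BR (Ov ov_iff)

universe u

variable {p : ℕ} [hp : Fact p.Prime]

/-- (R2) Lemma L -/
theorem lemmaL (hp2 : p ≠ 2) (hL : LayerTask.{u} p) {G : Type u} [Group G] [Finite G] (P : Sylow p G) (N : Subgroup G)
    [hN : N.Normal]
    (hs : ∀ g : G, (∀ x ∈ (P : Subgroup G), g * x * g⁻¹ ∈ (P : Subgroup G) ⊔ N) → g ∈ (P : Subgroup G) ⊔ N)
    (ψ : IrrCharacter N) (hdeg : ¬ p ∣ charDegree (ψ : N → ℂ)) (hrat : PRat p (ψ : N → ℂ))
    (hinv : ∀ g ∈ (P : Subgroup G), ∀ x : N, (ψ : N → ℂ) (MulAut.conjNormal g x) = (ψ : N → ℂ) x) :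
    ∃ χ : IrrCharacter G, ¬ p ∣ charDegree (χ : G → ℂ) ∧ PRat p (χ : G → ℂ) ∧ Ov N (χ : G → ℂ) ψ := by
  obtain ⟨χ, h1, h2, h3, h4⟩ := lemL hp2 hL N P ψ.2 hdeg hrat (SN_of_one P N hs) (fun x hx k => hinv x hx k)
  exact ⟨⟨χ, h1⟩, h2, h3, h4⟩

end Cfsg.Agent.H846.RatB
end

-- part: H921/RatB/Fac
section
/-!
# Nonabelian minimal normal subgroups of groups with self-normalizing Sylow subgroups (helper921, S4891)

`factor_psl` : the factors are `PSL₂(F)`, `F` of characteristic `3`, `#F % 4 = 3` (the first part of the proof of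
`H663.GmnStep.sec_of_tab`).
-/

set_option autoImplicit false
set_option linter.style.haveILetI false

namespace Cfsg.Agent.H921.RatB

open Cfsg Cfsg.Agent.H663.GmnStep
open Cfsg.Agent.H712 (GmnMin.Hyp GmnMin.indT GmnMin.mem_indT GmnMin.spec)

universe u

variable {p : ℕ} [hp : Fact p.Prime]

theorem factor_psl (hT : Tab.{u} p) (G : Type u) [Group G] [Finite G] (R N : Subgroup G) [hN : N.Normal]
    (hj : SelfNorm p R.subtype) {m : ℕ} {T : Fin m → Subgroup G} {e : N ≃* ∀ i, T i} (hm : 0 < m)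
    (hsimple : ∀ i, IsSimpleGroup (T i)) (hnonab : ∀ i, ∃ a b : T i, a * b ≠ b * a) (hc : IsCoord e)
    (htrans : ∀ i j, ∃ g : G, T j = (T i).map (MulAut.conj g).toMonoidHom) (hdvd : p ∣ Nat.card N) :
    p = 3 ∧ ∃ (F : Type) (_ : Field F) (_ : Fintype F), CharP F 3 ∧ Fintype.card F % 4 = 3 ∧
      3 < Fintype.card F ∧ ∀ i, Nonempty (T i ≃* Matrix.ProjectiveSpecialLinearGroup (Fin 2) F) := by
  classical
  have hRr : R.subtype.range = R := R.range_subtype
  have hRp : IsPGroup p R := by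
    have := hj.pgroup
    rwa [hRr] at this
  have hRi : ¬ p ∣ R.index := by
    have := hj.index
    rwa [hRr] at this
  have hself : Subgroup.normalizer ((R : Subgroup G) : Set G) = R := by
    have := hj.self
    rwa [hRr] at this
  let P : Sylow p G := hRp.toSylow hRi
  have hyp : ∀ i, H712.GmnMin.Hyp N (T i) := fun i =>
    ⟨hN, hc.le i, hc.norm i, hsimple i, fun h => by
      obtain ⟨a, b, hab⟩ := hnonab i
      exact hab (h a b)⟩
  have hspec := fun i => H712.GmnMin.spec P (hyp i) hself (H712.GmnMin.indT P (T i))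
    (fun a => H712.GmnMin.mem_indT P)
  have hgood : ∀ i, GoodA p (jQ R.subtype (T i)) (H712.GmnMin.indT P (T i)) := fun i =>
    ⟨(hspec i).1, fun x => (hspec i).2.1 _ x.1.2, (hspec i).2.2.2⟩
  -- the factors are isomorphic
  have hiso : ∀ i j, Nonempty (T i ≃* T j) := by
    intro i j
    obtain ⟨g, hg⟩ := htrans i j
    exact ⟨conjIso g hg⟩
  have hdvdT : ∀ i, p ∣ Nat.card (T i) := by
    intro i
    rw [Nat.card_congr e.toEquiv, Nat.card_pi] at hdvd
    obtain ⟨j, -, hj⟩ := (hp.out.prime.dvd_finsetProd_iff _).1 hdvd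
    obtain ⟨ε⟩ := hiso i j
    rwa [Nat.card_congr ε.toEquiv]
  let i₀ : Fin m := ⟨0, hm⟩
  rcases hT (T i₀) (hsimple i₀) (hyp i₀).nonab (hdvdT i₀) with hrow | ⟨hp3, F, iF, iFin, hF3, hcard, ⟨e₀⟩⟩
  · -- no such configuration
    exfalso
    obtain ⟨s1, s2, ⟨Q, hQ⟩, s4⟩ := hspec i₀
    obtain ⟨y, hy1, hy2, t, ht, hne⟩ := hrow _ s1 Q (fun x hx => s2 x ((hQ x).1 hx))
    have := s4 y hy1 hy2
    apply hne
    rw [this, one_mul, inv_one, mul_one]
  · subst hp3
    have hε : ∀ i, Nonempty (T i ≃* Matrix.ProjectiveSpecialLinearGroup (Fin 2) F) := by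
      intro i
      obtain ⟨ε⟩ := hiso i i₀
      exact ⟨ε.trans e₀⟩
    have hZ : Subgroup.center (Matrix.ProjectiveSpecialLinearGroup (Fin 2) F) = ⊥ := by
      rw [Subgroup.eq_bot_iff_forall]
      intro z hz
      have h1 : e₀.symm z ∈ Subgroup.center (T i₀) := by
        rw [Subgroup.mem_center_iff] at hz ⊢
        intro s
        apply e₀.injective
        rw [map_mul, map_mul, e₀.apply_symm_apply]
        exact hz _
      rw [(hyp i₀).center_eq, Subgroup.mem_bot] at h1
      rw [← e₀.apply_symm_apply z, h1, map_one]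
    have h1 := (H663.GmnPsl.frob_of_good e₀ hZ (syl_q hc hRp hRi i₀) (hgood i₀)).1
    have hodd : Fintype.card F % 4 = 3 := by
      by_contra h4
      exact h1 (FiniteField.isSquare_neg_one_iff.2 h4)
    exact ⟨rfl, F, iF, iFin, hF3, hodd, hcard, hε⟩

end Cfsg.Agent.H921.RatB
end

-- part: H921/RatB/Struct
section
/-!
# Central extensions of direct products of simple groups (helper921, S4891)

`Z` central in `T`, `K / Z` with coordinates `S i` (simple, nonabelian), `X i` the preimage of `S i`,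
`E i = [X i, X i]`: `E i` is perfect, `E i` and `E j` commute, `K = Z E₁ ... E_m` (`cov`).
-/

set_option autoImplicit false
set_option linter.unusedSectionVars false

namespace Cfsg.Agent.H921.RatB

open Cfsg.Agent.H663.GmnStep
open scoped commutatorElement

universe u

/-- nonabelian simple subgroups are perfect -/
theorem comm_self {G : Type u} [Group G] (S : Subgroup G) (hs : IsSimpleGroup S) (hn : ∃ a b : S, a * b ≠ b * a) :
    ⁅S, S⁆ = S := by
  have h1 : commutator S = ⊤ := by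
    rcases (inferInstance : (commutator S).Normal).eq_bot_or_eq_top with h | h
    · exfalso
      obtain ⟨a, b, hab⟩ := hn
      have h2 : ⁅a, b⁆ ∈ commutator S := Subgroup.commutator_mem_commutator (Subgroup.mem_top a) (Subgroup.mem_top b)
      rw [h, Subgroup.mem_bot, commutatorElement_eq_one_iff_mul_comm] at h2
      exact hab h2
    · exact h
  rw [← Subgroup.map_subtype_commutator, h1, ← MonoidHom.range_eq_map, Subgroup.range_subtype]

section
variable {T : Type u} [Group T] {Z : Subgroup T} [Z.Normal] {m : ℕ} (S : Fin m → Subgroup (T ⧸ Z))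

/-- the preimage of the factor -/
def XS (i : Fin m) : Subgroup T := (S i).comap (QuotientGroup.mk' Z)

/-- the layer component -/
def ES (i : Fin m) : Subgroup T := ⁅XS S i, XS S i⁆

theorem mem_XS {i : Fin m} {x : T} : x ∈ XS S i ↔ (x : T ⧸ Z) ∈ S i := Iff.rfl

theorem ES_le_XS (i : Fin m) : ES S i ≤ XS S i :=
  Subgroup.commutator_le.2 fun x hx y hy => by
    rw [commutatorElement_def]
    exact Subgroup.mul_mem _ (Subgroup.mul_mem _ (Subgroup.mul_mem _ hx hy) (Subgroup.inv_mem _ hx))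
      (Subgroup.inv_mem _ hy)

theorem map_XS (i : Fin m) : (XS S i).map (QuotientGroup.mk' Z) = S i :=
  Subgroup.map_comap_eq_self_of_surjective (QuotientGroup.mk'_surjective Z) _

/-- the components are perfect modulo `Z` -/
def Perf : Prop := ∀ i, ⁅S i, S i⁆ = S i

variable {S}

theorem map_ES (hp : Perf S) (i : Fin m) : (ES S i).map (QuotientGroup.mk' Z) = S i := by
  rw [ES, Subgroup.map_commutator, map_XS, hp]

theorem XS_eq (hp : Perf S) (i : Fin m) : XS S i = ES S i ⊔ Z := by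
  have h1 : XS S i = ((ES S i).map (QuotientGroup.mk' Z)).comap (QuotientGroup.mk' Z) := by
    rw [map_ES hp]
    rfl
  rw [h1, Subgroup.comap_map_eq, QuotientGroup.ker_mk']

theorem exists_mem (hp : Perf S) {i : Fin m} {x : T} (hx : x ∈ XS S i) : ∃ e ∈ ES S i, ∃ z ∈ Z, x = e * z := by
  rw [XS_eq hp, Subgroup.mem_sup_of_normal_right] at hx
  obtain ⟨e, he, z, hz, h⟩ := hx
  exact ⟨e, he, z, hz, h.symm⟩

/-- commutators do not see central factors -/
theorem comm_central {x y z w : T} (hz : z ∈ Subgroup.center T) (hw : w ∈ Subgroup.center T) :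
    ⁅x * z, y * w⁆ = ⁅x, y⁆ := by
  have h1 : ∀ a, a * z = z * a := fun a => (Subgroup.mem_center_iff.1 hz a)
  have h2 : ∀ a, a * w = w * a := fun a => (Subgroup.mem_center_iff.1 hw a)
  rw [commutatorElement_def, commutatorElement_def, mul_inv_rev, mul_inv_rev]
  calc x * z * (y * w) * (z⁻¹ * x⁻¹) * (w⁻¹ * y⁻¹)
      = x * (z * (y * w)) * (z⁻¹ * x⁻¹) * (w⁻¹ * y⁻¹) := by group
    _ = x * (y * w * z) * (z⁻¹ * x⁻¹) * (w⁻¹ * y⁻¹) := by rw [← h1]
    _ = x * (y * (w * x⁻¹)) * (w⁻¹ * y⁻¹) := by group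
    _ = x * (y * (x⁻¹ * w)) * (w⁻¹ * y⁻¹) := by rw [← h2]
    _ = x * y * x⁻¹ * y⁻¹ := by group

theorem ES_perf (hz : Z ≤ Subgroup.center T) (hp : Perf S) (i : Fin m) : ⁅ES S i, ES S i⁆ = ES S i := by
  apply le_antisymm
  · exact Subgroup.commutator_mono (ES_le_XS S i) (ES_le_XS S i)
  · refine Subgroup.commutator_le.2 fun x hx y hy => ?_
    obtain ⟨e, he, z, hz', rfl⟩ := exists_mem hp hx
    obtain ⟨f, hf, w, hw', rfl⟩ := exists_mem hp hy
    rw [comm_central (hz hz') (hz hw')]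
    exact Subgroup.commutator_mem_commutator he hf

/-- three subgroups lemma in the case needed -/
theorem comm_of {A : Subgroup T} {y : T} (h : ∀ x ∈ A, ∃ z ∈ Subgroup.center T, y * x * y⁻¹ = x * z) {x : T}
    (hx : x ∈ ⁅A, A⁆) : y * x * y⁻¹ = x := by
  have h1 : ⁅A, A⁆ ≤ Subgroup.centralizer {y} := by
    refine Subgroup.commutator_le.2 fun a ha b hb => ?_
    obtain ⟨z, hz, h1⟩ := h a ha
    obtain ⟨w, hw, h2⟩ := h b hb
    have h3 : y * ⁅a, b⁆ * y⁻¹ = ⁅a, b⁆ := by
      rw [conjugate_commutatorElement, h1, h2, comm_central hz hw]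
    rw [Subgroup.mem_centralizer_singleton_iff]
    calc ⁅a, b⁆ * y = y * ⁅a, b⁆ * y⁻¹ * y := by rw [h3]
      _ = y * ⁅a, b⁆ := by group
  have h2 := Subgroup.mem_centralizer_singleton_iff.1 (h1 hx)
  rw [← h2]
  group

theorem conj_ES {g : T} {i j : Fin m} (h : ∀ x ∈ XS S i, g * x * g⁻¹ ∈ XS S j) :
    ∀ x ∈ ES S i, g * x * g⁻¹ ∈ ES S j := by
  intro x hx
  have h1 : (ES S i).map (MulAut.conj g).toMonoidHom ≤ ES S j := by
    rw [ES, Subgroup.map_commutator]
    have h2 : (XS S i).map (MulAut.conj g).toMonoidHom ≤ XS S j := by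
      rintro _ ⟨x, hx, rfl⟩
      exact h x hx
    exact Subgroup.commutator_mono h2 h2
  exact h1 ⟨x, hx, rfl⟩

theorem conj_XS {g : T} {i j : Fin m} (h : S j = (S i).map (MulAut.conj (g : T ⧸ Z)).toMonoidHom) :
    ∀ x ∈ XS S i, g * x * g⁻¹ ∈ XS S j := by
  intro x hx
  rw [mem_XS, h]
  exact ⟨x, hx, rfl⟩

theorem conj_ES_iff {g : T} {i j : Fin m} (h : S j = (S i).map (MulAut.conj (g : T ⧸ Z)).toMonoidHom) :
    ∀ x ∈ ES S j, g⁻¹ * x * g ∈ ES S i := by
  have h1 : S i = (S j).map (MulAut.conj ((g⁻¹ : T) : T ⧸ Z)).toMonoidHom := by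
    rw [h, Subgroup.map_map]
    have : (MulAut.conj ((g⁻¹ : T) : T ⧸ Z)).toMonoidHom.comp (MulAut.conj (g : T ⧸ Z)).toMonoidHom =
        MonoidHom.id _ := by
      ext x
      simp only [_root_.QuotientGroup.mk_inv, _root_.map_inv, _root_.MulEquiv.toMonoidHom_eq_coe, _root_.MonoidHom.coe_comp, _root_.MonoidHom.coe_coe, _root_.MulAut.coe_inv, _root_.MulEquiv.symm_comp_self, _root_.QuotientGroup.coe_mk', _root_.Function.comp_apply, _root_.id_eq, _root_.MonoidHom.CompTriple.comp_eq, _root_.QuotientGroup.mk'_apply]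
    rw [this, Subgroup.map_id]
  intro x hx
  have h2 := conj_ES (conj_XS h1) x hx
  rwa [inv_inv] at h2

/-- the projection of the component to the simple factor -/
def prj (S : Fin m → Subgroup (T ⧸ Z)) (i : Fin m) : ES S i →* S i :=
  ((QuotientGroup.mk' Z).comp (ES S i).subtype).codRestrict (S i) fun x => ES_le_XS S i x.2

theorem prj_surj (hp : Perf S) (i : Fin m) : Function.Surjective (prj S i) := by
  intro s
  have h1 : (s : T ⧸ Z) ∈ (ES S i).map (QuotientGroup.mk' Z) := by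
    rw [map_ES hp]
    exact s.2
  obtain ⟨x, hx, hxs⟩ := h1
  exact ⟨⟨x, hx⟩, Subtype.ext hxs⟩

theorem prj_ker (i : Fin m) : (prj S i).ker = Z.subgroupOf (ES S i) := by
  ext x
  rw [MonoidHom.mem_ker, Subgroup.mem_subgroupOf, ← QuotientGroup.eq_one_iff]
  exact Subtype.ext_iff

end

section
variable {T : Type u} [Group T] [Finite T] {Z K : Subgroup T} [Z.Normal] [K.Normal]
  [hN : (K.map (QuotientGroup.mk' Z)).Normal] {m : ℕ} {S : Fin m → Subgroup (T ⧸ Z)}
  {e : (K.map (QuotientGroup.mk' Z)) ≃* ∀ i, S i}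

omit [Finite T] in
/-- the factors commute -/
theorem comm_S (hc : IsCoord e) : Comm' S := by
  intro i j hij x y hx hy
  have h1 := (hc.comm (e.symm (Pi.mulSingle i ⟨x, hx⟩)) j).1 (by
    rw [e.apply_symm_apply, Pi.mulSingle_eq_of_ne (Ne.symm hij)]) y hy
  rwa [hc.single] at h1

omit [Finite T] in
theorem e_symm_eq (hc : IsCoord e) (x : ∀ i, S i) :
    ((e.symm x : K.map (QuotientGroup.mk' Z)) : T ⧸ Z) = Subgroup.noncommPiCoprod (comm_S hc) x := by
  have key : (K.map (QuotientGroup.mk' Z)).subtype.comp e.symm.toMonoidHom =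
      Subgroup.noncommPiCoprod (comm_S hc) := by
    refine MonoidHom.pi_ext fun i x => ?_
    rw [Subgroup.noncommPiCoprod_mulSingle]
    exact hc.single i x
  exact DFunLike.congr_fun key x

theorem cov (hz : Z ≤ Subgroup.center T) (hZK : Z ≤ K) (hc : IsCoord e) (hp : Perf S) : Cov Z K (ES S) := by
  classical
  have hcomm : Comm' (ES S) := by
    intro i j hij x y hx hy
    have h1 : y * x * y⁻¹ = x := by
      refine comm_of (A := XS S i) (fun x hx => ⟨x⁻¹ * (y * x * y⁻¹), hz ?_, by group⟩) hx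
      have h2 : Commute (x : T ⧸ Z) (y : T ⧸ Z) := comm_S hc hij _ _ hx (ES_le_XS S j hy)
      rw [← QuotientGroup.eq_one_iff]
      show (x : T ⧸ Z)⁻¹ * ((y : T ⧸ Z) * (x : T ⧸ Z) * (y : T ⧸ Z)⁻¹) = 1
      rw [← h2.eq]
      group
    show x * y = y * x
    calc x * y = y * x * y⁻¹ * y := by rw [h1]
      _ = y * x := by group
  refine ⟨hz, hZK, fun i x hx => ?_, hcomm, ?_, ?_, fun g => ?_⟩
  · have h1 : (x : T ⧸ Z) ∈ K.map (QuotientGroup.mk' Z) := hc.le i (ES_le_XS S i hx)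
    obtain ⟨k, hk, hkx⟩ := h1
    have h2 : k⁻¹ * x ∈ Z := QuotientGroup.eq.1 hkx
    have h3 : x = k * (k⁻¹ * x) := by group
    rw [h3]
    exact K.mul_mem hk (hZK h2)
  · intro k hk
    have h1 : (k : T ⧸ Z) ∈ ⨆ i, S i := by
      have h2 := e_symm_eq hc (e ⟨k, k, hk, rfl⟩)
      rw [e.symm_apply_apply] at h2
      rw [← Subgroup.noncommPiCoprod_range (hcomm := comm_S hc)]
      exact ⟨_, h2.symm⟩
    have h2 : (⨆ i, S i) = (⨆ i, ES S i).map (QuotientGroup.mk' Z) := by
      rw [Subgroup.map_iSup]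
      exact iSup_congr fun i => (map_ES hp i).symm
    have h3 : k ∈ ((⨆ i, ES S i).map (QuotientGroup.mk' Z)).comap (QuotientGroup.mk' Z) := by
      rw [← h2]
      exact h1
    rw [Subgroup.comap_map_eq, QuotientGroup.ker_mk', sup_comm] at h3
    exact h3
  · intro x hx i
    have key : (QuotientGroup.mk' Z).comp (Subgroup.noncommPiCoprod hcomm) =
        (Subgroup.noncommPiCoprod (comm_S hc)).comp
          (MonoidHom.pi fun i => (prj S i).comp (Pi.evalMonoidHom (fun i => ES S i) i)) := by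
      refine MonoidHom.pi_ext fun i x => ?_
      rw [MonoidHom.comp_apply, MonoidHom.comp_apply, Subgroup.noncommPiCoprod_mulSingle]
      have h1 : (MonoidHom.pi fun i => (prj S i).comp (Pi.evalMonoidHom (fun i => ES S i) i))
          (Pi.mulSingle i x) = Pi.mulSingle i (prj S i x) := by
        funext j
        show prj S j ((Pi.mulSingle i x : ∀ i, ES S i) j) = _
        by_cases hj : j = i
        · subst hj
          rw [Pi.mulSingle_eq_same, Pi.mulSingle_eq_same]
        · rw [Pi.mulSingle_eq_of_ne hj, Pi.mulSingle_eq_of_ne hj, map_one]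
      rw [h1, Subgroup.noncommPiCoprod_mulSingle]
      rfl
    have h1 := DFunLike.congr_fun key x
    rw [MonoidHom.comp_apply, MonoidHom.comp_apply, ← e_symm_eq hc] at h1
    have h2 : (QuotientGroup.mk' Z) (Subgroup.noncommPiCoprod hcomm x) = 1 := (QuotientGroup.eq_one_iff _).2 hx
    rw [h2] at h1
    have h3 : e.symm ((MonoidHom.pi fun i => (prj S i).comp (Pi.evalMonoidHom (fun i => ES S i) i)) x) = 1 :=
      Subtype.ext h1.symm
    rw [map_eq_one_iff e.symm e.symm.injective] at h3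
    have h4 : prj S i (x i) = 1 := congrFun h3 i
    exact (QuotientGroup.eq_one_iff _).1 (congrArg Subtype.val h4)
  · refine ⟨Equiv.ofBijective (hc.sg (g : T ⧸ Z)) (hc.sg_bij _), fun i => ?_⟩
    exact conj_ES (conj_XS (hc.T_sg (g : T ⧸ Z) i))

end

end Cfsg.Agent.H921.RatB
end

-- part: H921/RatB/Trans
section
/-!
# Transport of a character to the conjugate components; `p`-rationality of products (helper921, S4891)
-/

set_option autoImplicit false
set_option linter.unusedSectionVars false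

namespace Cfsg.Agent.H921.RatB

open Cfsg Cfsg.Agent.Characters.Core Cfsg.Agent.H846.RatB

universe u

section
variable {T : Type u} [Group T] [Finite T] {Z : Subgroup T} {ι : Type} {E : ι → Subgroup T}

/-- Transport of an invariant character of `E i₀` to all components. -/
theorem exists_family (hz : Z ≤ Subgroup.center T) (i₀ : ι) (g : ι → T)
    (hg1 : ∀ i, ∀ x ∈ E i₀, g i * x * (g i)⁻¹ ∈ E i) (hg2 : ∀ i, ∀ x ∈ E i, (g i)⁻¹ * x * g i ∈ E i₀)
    (ν : Z →* ℂˣ) (ψ₀ : E i₀ → ℂ) (h0 : IsIrrCharacter (E i₀) ψ₀)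
    (h1 : ∀ (x : E i₀) (z : Z) (hz : (z : T) ∈ E i₀), ψ₀ (x * ⟨z, hz⟩) = ψ₀ x * ν z)
    (h2 : ∀ (h : T) (hh : ∀ x ∈ E i₀, h * x * h⁻¹ ∈ E i₀) (x : E i₀), ψ₀ ⟨h * x * h⁻¹, hh x x.2⟩ = ψ₀ x) :
    ∃ ψ : ∀ i, E i → ℂ, (∀ i, IsIrrCharacter (E i) (ψ i)) ∧
      (∀ i (x : E i) (z : Z) (hz : (z : T) ∈ E i), ψ i (x * ⟨z, hz⟩) = ψ i x * ν z) ∧
      (∀ (g : T) (i j : ι) (hg : ∀ x ∈ E i, g * x * g⁻¹ ∈ E j) (x : E i),
        ψ j ⟨g * x * g⁻¹, hg x x.2⟩ = ψ i x) ∧
      (∀ i, charDegree (ψ i) = charDegree ψ₀) ∧ ∀ i x, ∃ y, ψ i x = ψ₀ y := by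
  have hg3 : ∀ i, ∀ x ∈ E i, (g i)⁻¹ * x * (g i)⁻¹⁻¹ ∈ E i₀ := by
    intro i x hx
    rw [inv_inv]
    exact hg2 i x hx
  have hF : ∀ i (x : E i), ((cj E (g i)⁻¹ i i₀ (hg3 i) x : E i₀) : T) = (g i)⁻¹ * x * (g i)⁻¹⁻¹ := fun i x => rfl
  refine ⟨fun i x => ψ₀ (cj E (g i)⁻¹ i i₀ (hg3 i) x), fun i => ?_, fun i x z hz' => ?_, fun a i j ha x => ?_,
    fun i => ?_, fun i x => ⟨_, rfl⟩⟩
  · refine isIrr_comp (cj E (g i)⁻¹ i i₀ (hg3 i)) (fun y => ⟨⟨g i * y * (g i)⁻¹, hg1 i y y.2⟩, ?_⟩) h0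
    apply Subtype.ext
    rw [hF]
    group
  · have e1 : (g i)⁻¹ * (z : T) * (g i)⁻¹⁻¹ = z := by
      rw [Subgroup.mem_center_iff.1 (hz z.2)]
      group
    have e2 : (z : T) ∈ E i₀ := by
      rw [← e1]
      exact hg3 i z hz'
    have e3 : cj E (g i)⁻¹ i i₀ (hg3 i) (x * ⟨z, hz'⟩) = cj E (g i)⁻¹ i i₀ (hg3 i) x * ⟨z, e2⟩ := by
      rw [map_mul]
      congr 1
      exact Subtype.ext e1
    show ψ₀ _ = ψ₀ _ * _
    rw [e3, h1]
  · show ψ₀ _ = ψ₀ _
    set y : E i₀ := cj E (g i)⁻¹ i i₀ (hg3 i) x with hy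
    have e1 : (x : T) = g i * y * (g i)⁻¹ := by
      rw [hy, hF]
      group
    have e2 : ∀ w ∈ E i₀, ((g j)⁻¹ * a * g i) * w * ((g j)⁻¹ * a * g i)⁻¹ ∈ E i₀ := by
      intro w hw
      have := hg2 j _ (ha _ (hg1 i w hw))
      have e3 : (g j)⁻¹ * a * g i * w * ((g j)⁻¹ * a * g i)⁻¹ =
          (g j)⁻¹ * (a * (g i * w * (g i)⁻¹) * a⁻¹) * g j := by group
      rw [e3]
      exact this
    rw [← h2 _ e2 y]
    congr 1
    apply Subtype.ext
    rw [hF]
    show (g j)⁻¹ * (a * x * a⁻¹) * (g j)⁻¹⁻¹ = (g j)⁻¹ * a * g i * y * ((g j)⁻¹ * a * g i)⁻¹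
    rw [e1]
    group
  · rw [Blocks.Basic.charDegree_def, Blocks.Basic.charDegree_def]
    simp only [map_one]

end

/-- roots of unity in the cyclotomic field -/
theorem root_mem {n : ℕ} (hn : n ≠ 0) {w : ℂ} (hw : w ^ n = 1) :
    w ∈ IntermediateField.adjoin ℚ ({Complex.exp (2 * Real.pi * Complex.I / n)} : Set ℂ) := by
  have : NeZero n := ⟨hn⟩
  obtain ⟨i, -, rfl⟩ := (Complex.isPrimitiveRoot_exp n hn).eq_pow_of_pow_eq_one hw
  exact pow_mem (IntermediateField.mem_adjoin_simple_self ℚ _) i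

theorem adjoin_le {n m : ℕ} (hm : m ≠ 0) (h : n ∣ m) :
    IntermediateField.adjoin ℚ ({Complex.exp (2 * Real.pi * Complex.I / n)} : Set ℂ) ≤
      IntermediateField.adjoin ℚ ({Complex.exp (2 * Real.pi * Complex.I / m)} : Set ℂ) := by
  rw [IntermediateField.adjoin_simple_le_iff]
  apply root_mem hm
  have hn : n ≠ 0 := fun h0 => hm (by rw [h0, zero_dvd_iff] at h; exact h)
  obtain ⟨k, rfl⟩ := h
  rw [pow_mul, (Complex.isPrimitiveRoot_exp n hn).pow_eq_one, one_pow]

end Cfsg.Agent.H921.RatB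
end

-- part: H921/RatB/LayerTab
section
/-!
# The layer task of TEAM B0-RAT (S4891), from the table of simple groups (helper921)

`layer_of_tab : Tab p → SLTask → LayerTask p`.
-/

set_option autoImplicit false

namespace Cfsg.Agent.H921.RatB

open Cfsg Cfsg.Agent.Characters.Core Cfsg.Agent.H846.RatB Cfsg.Agent.H663.GmnStep

universe u

section
variable {T : Type u} [Group T] {Z K : Subgroup T} [Z.Normal]

theorem min_quot (hmin : ∀ M : Subgroup T, M.Normal → Z ≤ M → M ≤ K → M = Z ∨ M = K) (hZK : Z ≤ K) :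
    ∀ M : Subgroup (T ⧸ Z), M.Normal → M ≤ K.map (QuotientGroup.mk' Z) →
      M = ⊥ ∨ M = K.map (QuotientGroup.mk' Z) := by
  intro M hM hle
  have h1 : (M.comap (QuotientGroup.mk' Z)).map (QuotientGroup.mk' Z) = M :=
    Subgroup.map_comap_eq_self_of_surjective (QuotientGroup.mk'_surjective Z) M
  have h2 : Z ≤ M.comap (QuotientGroup.mk' Z) := by
    intro z hz
    rw [Subgroup.mem_comap]
    have : (QuotientGroup.mk' Z) z = 1 := (QuotientGroup.eq_one_iff z).2 hz
    rw [this]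
    exact one_mem _
  have h3 : M.comap (QuotientGroup.mk' Z) ≤ K := by
    have h4 := Subgroup.comap_mono (f := QuotientGroup.mk' Z) hle
    rwa [Subgroup.comap_map_eq, QuotientGroup.ker_mk', sup_eq_left.2 hZK] at h4
  rcases hmin _ (hM.comap _) h2 h3 with h | h
  · left
    rw [← h1, h, Subgroup.map_eq_bot_iff, QuotientGroup.ker_mk']
  · right
    rw [← h1, h]

theorem self_quot {p : ℕ} [Fact p.Prime] [Finite T] (hSN : SN p Z) (P : Sylow p T) :
    Subgroup.normalizer (((P.mapSurjective (QuotientGroup.mk'_surjective Z) : Sylow p (T ⧸ Z)) :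
      Subgroup (T ⧸ Z)) : Set (T ⧸ Z)) = (P.mapSurjective (QuotientGroup.mk'_surjective Z) : Sylow p (T ⧸ Z)) := by
  refine le_antisymm (fun y hy => ?_) Subgroup.le_normalizer
  obtain ⟨t, rfl⟩ := QuotientGroup.mk'_surjective Z y
  rw [Subgroup.mem_normalizer_iff] at hy
  have hmem : ∀ s : T, (QuotientGroup.mk' Z) s ∈ (P : Subgroup T).map (QuotientGroup.mk' Z) ↔
      s ∈ (P : Subgroup T) ⊔ Z := by
    intro s
    have := Subgroup.comap_map_eq (QuotientGroup.mk' Z) (P : Subgroup T)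
    rw [QuotientGroup.ker_mk'] at this
    rw [← this, Subgroup.mem_comap]
  rw [Sylow.coe_mapSurjective] at hy ⊢
  rw [hmem]
  refine hSN P t fun x hx => ?_
  have h1 := (hy (QuotientGroup.mk' Z x)).1 ⟨x, hx, rfl⟩
  rw [← map_inv, ← map_mul, ← map_mul] at h1
  exact (hmem _).1 h1

end

theorem layer_of_tab {p : ℕ} [hp : Fact p.Prime] (hT : Tab.{u} p) (hSL : SLTask.{u}) : LayerTask.{u} p := by
  intro T _ _ Z K hK hZK hZc hpZ hmin hna hdvd hSN ν P
  classical
  have hZn : Z.Normal := ⟨fun z hz g => by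
    rw [Subgroup.mem_center_iff.1 (hZc hz) g, mul_assoc, mul_inv_cancel, mul_one]
    exact hz⟩
  have hN : (K.map (QuotientGroup.mk' Z)).Normal := hK.map _ (QuotientGroup.mk'_surjective Z)
  have hnaN : ¬ ∀ x ∈ K.map (QuotientGroup.mk' Z), ∀ y ∈ K.map (QuotientGroup.mk' Z), Commute x y := by
    intro h
    obtain ⟨x, hx, y, hy, hxy⟩ := hna
    apply hxy
    have h1 : Commute (x : T ⧸ Z) (y : T ⧸ Z) := h _ ⟨x, hx, rfl⟩ _ ⟨y, hy, rfl⟩
    rw [← QuotientGroup.eq_one_iff]
    show (x : T ⧸ Z) * (y : T ⧸ Z) * (x : T ⧸ Z)⁻¹ * (y : T ⧸ Z)⁻¹ = 1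
    rw [h1.eq]
    group
  have hdvdN : p ∣ Nat.card (K.map (QuotientGroup.mk' Z)) := by
    rw [← Subgroup.relIndex_ker, QuotientGroup.ker_mk']
    exact hdvd
  have hself := self_quot hSN P
  obtain ⟨m, S, e, hm, hsimple, hnonab, hTinj, hTle, hTnorm, hperm, htrans, hsingle, hcomm⟩ :=
    PermutationGroups.OnanScott.exists_coordinates (K.map (QuotientGroup.mk' Z)) (min_quot hmin hZK) hnaN
  have hc : IsCoord e := ⟨hTinj, hTle, hTnorm, hperm, hsingle, hcomm⟩
  obtain ⟨hp3, F, iF, iFin, hF3, h4, hcard, hε⟩ := factor_psl hT (T ⧸ Z) _ (K.map (QuotientGroup.mk' Z))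
    (selfNorm_of _ hself) hm hsimple hnonab hc htrans hdvdN
  subst hp3
  have hpf : Perf S := fun i => comm_self _ (hsimple i) (hnonab i)
  have hcov := cov hZc hZK hc hpf
  let i₀ : Fin m := ⟨0, hm⟩
  obtain ⟨ε⟩ := hε i₀
  let j : Z.subgroupOf (ES S i₀) →* Z :=
    ((ES S i₀).subtype.comp (Z.subgroupOf (ES S i₀)).subtype).codRestrict Z fun x => x.2
  have hj : Function.Injective j := by
    intro x y hxy
    apply Subtype.ext
    apply Subtype.ext
    exact congrArg (fun z : Z => (z : T)) hxy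
  obtain ⟨ψ₀, a1, a2, a3, ⟨n, hn, a4⟩, a5⟩ := hSL (ES S i₀) (Z.subgroupOf (ES S i₀))
    (fun z hz => Subgroup.mem_center_iff.2 fun x => Subtype.ext (Subgroup.mem_center_iff.1 (hZc hz) x))
    (fun h => hpZ (h.trans (Nat.card_range_of_injective hj ▸ Subgroup.card_subgroup_dvd_card j.range)))
    (by
      have h1 := ES_perf hZc hpf i₀
      rw [← Subgroup.map_subtype_commutator] at h1
      rw [eq_top_iff]
      intro x _
      have h2 : (x : T) ∈ (commutator (ES S i₀)).map (ES S i₀).subtype := by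
        rw [h1]
        exact x.2
      obtain ⟨y, hy, hyx⟩ := h2
      have h3 : y = x := Subtype.ext hyx
      rwa [h3] at hy)
    F h4 hcard
    ⟨ε.toMonoidHom.comp (prj S i₀), ε.surjective.comp (prj_surj hpf i₀), by
      rw [← prj_ker]
      ext x
      rw [MonoidHom.mem_ker, MonoidHom.mem_ker]
      exact map_eq_one_iff ε ε.injective⟩ (ν.comp j)
  choose g' hg' using htrans i₀
  choose g hg using fun i => QuotientGroup.mk'_surjective Z (g' i)
  have hgS : ∀ i, S i = (S i₀).map (MulAut.conj ((g i : T) : T ⧸ Z)).toMonoidHom := by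
    intro i
    have : ((g i : T) : T ⧸ Z) = g' i := hg i
    rw [this]
    exact hg' i
  obtain ⟨ψ, b1, b2, b3, b4, b5⟩ := exists_family (E := ES S) hZc i₀ g
    (fun i => conj_ES (conj_XS (hgS i))) (fun i => conj_ES_iff (hgS i)) ν ψ₀ a1
    (fun x z hz => a2 ⟨⟨z, hz⟩, z.2⟩ x)
    (fun h hh x => by
      have hinj : Function.Injective (cj (ES S) h i₀ i₀ hh) := by
        intro x y hxy
        have h1 : h * (x : T) * h⁻¹ = h * y * h⁻¹ := congrArg (fun z : ES S i₀ => (z : T)) hxy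
        exact Subtype.ext (by simpa only [_root_.SetLike.coe_eq_coe, _root_.mul_left_inj, _root_.mul_right_inj] using h1)
      let α : MulAut (ES S i₀) := MulEquiv.ofBijective (cj (ES S) h i₀ i₀ hh)
        (Finite.injective_iff_bijective.1 hinj)
      have hα : ∀ x : ES S i₀, ((α x : ES S i₀) : T) = h * x * h⁻¹ := fun x => rfl
      have hαz : ∀ z : ES S i₀, (z : T) ∈ Z → α z = z := by
        intro z hz
        apply Subtype.ext
        rw [hα, Subgroup.mem_center_iff.1 (hZc hz) h]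
        group
      exact a5 α (fun z z' hzz' => by
        rw [hαz z z.2] at hzz'
        rw [Subtype.ext hzz']) (fun z hz => by
        rw [hαz z hz]
        exact hz) x)
  obtain ⟨Ψ, c1, c2, c3, c4, c5⟩ := glue hcov ν ψ b1 b2 b3
  refine ⟨Ψ, c1, c2, ?_, ?_, fun x _ k => c5 x k⟩
  · rw [c3, Nat.prime_three.prime.dvd_finsetProd_iff]
    rintro ⟨i, -, hi⟩
    rw [b4] at hi
    exact a3 hi
  · have hn0 : n ≠ 0 := fun h => hn (h ▸ dvd_zero 3)
    have hZ0 : Nat.card Z ≠ 0 := Nat.card_pos.ne'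
    refine ⟨Nat.card Z * n, fun h => ?_, fun k => ?_⟩
    · rcases (Nat.prime_three.dvd_mul).1 h with h | h
      · exact hpZ h
      · exact hn h
    · obtain ⟨z, e', he'⟩ := c4 k
      rw [he']
      refine mul_mem ?_ (prod_mem fun i _ => ?_)
      · refine adjoin_le (mul_ne_zero hZ0 hn0) (dvd_mul_right _ _) (root_mem hZ0 ?_)
        rw [← Units.val_pow_eq_pow_val, ← map_pow, pow_card_eq_one', map_one, Units.val_one]
      · obtain ⟨y, hy⟩ := b5 i (e' i)
        rw [hy]
        exact adjoin_le (mul_ne_zero hZ0 hn0) (dvd_mul_left _ _) (a4 y)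

end Cfsg.Agent.H921.RatB
end

-- part: H775/RatB/SLTask
section
/-!
# S4891, task 4374 (helper775, for helper846): the rational character of degree `q - 1` of `SL₂(q)`, `q = 3 ^ f`, `f` odd

* `exists_conj_mem` : elements without eigenvector are conjugate into a fixed nonsplit torus;
* `exists_rat`      : an irreducible character of `SL₂(q)` of degree `q - 1`, integer valued, which only depends on the
  order of the element, and is negated by the central involution;
* `slTask`          : the task.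
-/

set_option autoImplicit false
set_option linter.unusedSectionVars false

namespace Cfsg.Agent.H775.RatB

open Cfsg Matrix Cfsg.Agent.H984.SLTwo Cfsg.Agent.H846.RatB

universe u

section

variable {F : Type*} [Field F] [DecidableEq F] [Fintype F]

local notation "SL" => Matrix.SpecialLinearGroup (Fin 2) F
local notation "M₂" => Matrix (Fin 2) (Fin 2) F

/-- Every element without eigenvector is conjugate to an element of the torus. -/
theorem exists_conj_mem (h2 : ringChar F ≠ 2) {g c : SL} (hg : Ell (g : M₂)) (hc : Ell (c : M₂)) :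
    ∃ k ∈ Subgroup.centralizer ({g} : Set SL), IsConj k c ∧ NS (k : M₂) := by
  classical
  set C := Subgroup.centralizer ({g} : Set SL) with hC
  have hcard : Nat.card C = Fintype.card F + 1 := card_cent_ell g hg
  have hn : 0 < Fintype.card F + 1 := Nat.succ_pos _
  have : Fintype C := Fintype.ofFinite C
  have hcard' : Fintype.card C = Fintype.card F + 1 := by
    rw [← hcard, Nat.card_eq_fintype_card (α := C)]
  have hsurj : ∀ z ∈ Polynomial.nthRootsFinset (Fintype.card F + 1) (1 : AlgebraicClosure F),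
      ∃ k ∈ (Finset.univ : Finset C), mu g hg k = z := by
    intro z hz
    obtain ⟨k, hk, hz'⟩ := Finset.surj_on_of_inj_on_of_card_le
      (s := (Finset.univ : Finset C))
      (t := Polynomial.nthRootsFinset (Fintype.card F + 1) (1 : AlgebraicClosure F))
      (fun k _ => mu g hg k)
      (fun k _ => by
        rw [Polynomial.mem_nthRootsFinset hn, ← map_pow, ← hcard, pow_card_eq_one', map_one])
      (fun a b _ _ hab => mu_injective g hg hab)
      (by
        rw [Finset.card_univ, hcard', Polynomial.nthRootsFinset_def]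
        exact (Multiset.toFinset_card_le _).trans (Polynomial.card_nthRoots _ _))
      z hz
    exact ⟨k, hk, hz'.symm⟩
  have hcm : c ∈ Subgroup.centralizer ({c} : Set SL) := Subgroup.mem_centralizer_singleton_iff.2 rfl
  have hz : mu c hc ⟨c, hcm⟩ ∈
      Polynomial.nthRootsFinset (Fintype.card F + 1) (1 : AlgebraicClosure F) := by
    rw [Polynomial.mem_nthRootsFinset hn, ← map_pow, ← card_cent_ell c hc, pow_card_eq_one', map_one]
  obtain ⟨k, -, hk⟩ := hsurj _ hz
  have h1 := mu_add_inv g hg k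
  have h2' := mu_add_inv c hc ⟨c, hcm⟩
  have h3 : mu g hg k⁻¹ = mu c hc (⟨c, hcm⟩⁻¹) := by
    have e1 : mu g hg k * mu g hg k⁻¹ = 1 := by rw [← map_mul, mul_inv_cancel, map_one]
    have e2 : mu c hc ⟨c, hcm⟩ * mu c hc (⟨c, hcm⟩⁻¹) = 1 := by
      rw [← map_mul, mul_inv_cancel, map_one]
    rw [hk] at e1
    have h0 : mu c hc ⟨c, hcm⟩ ≠ 0 := left_ne_zero_of_mul_eq_one e1
    exact mul_left_cancel₀ h0 (e1.trans e2.symm)
  rw [hk, h3, h2'] at h1
  have htr : tr ((k : SL) : M₂) = tr (c : M₂) :=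
    ((algebraMap F (AlgebraicClosure F)).injective h1).symm
  have h4 : tr (c : M₂) ^ 2 ≠ 4 := hc.tr_ne.resolve_right h2
  have hNS : NS ((k : SL) : M₂) := by
    by_contra hns
    apply h4
    rw [← htr]
    rcases scalar_cases hns with h | h
    · rw [h, tr_upp (by simp)]
      simp; norm_num
    · rw [h, tr_upp (by simp)]
      simp only [_root_.Units.val_neg, _root_.Units.val_one, _root_.mul_neg, _root_.mul_one, _root_.even_two, _root_.Even.neg_pow]; norm_num
  exact ⟨k, k.2, isConj_of_tr hNS hc.NS htr (Or.inr (by rw [htr]; exact h4)), hNS⟩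

theorem not_NS_of_mem_center' {z : SL} (hz : z ∈ Subgroup.center SL) : ¬ NS (z : M₂) := by
  rw [Matrix.SpecialLinearGroup.mem_center_iff] at hz
  obtain ⟨r, _, hr⟩ := hz
  rw [← hr]
  intro h
  simp [NS] at h

/-- `1`, `z`, unipotent times central, split, or conjugate into the torus. -/
theorem elt_cases (h2 : ringChar F ≠ 2) {g : SL} (hg : Ell (g : M₂)) (c : SL) :
    (∃ (a : Fˣ) (x : F), IsConj (upp a x) c) ∨
      ∃ k ∈ Subgroup.centralizer ({g} : Set SL), IsConj k c ∧ NS (k : M₂) := by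
  by_cases hc : Ell (c : M₂)
  · exact Or.inr (exists_conj_mem h2 hg hc)
  · left
    unfold Ell at hc
    push Not at hc
    obtain ⟨a, v, hv, h⟩ := hc
    have h1 := (conj_col (withCol v hv 0) c a).mpr (by rw [col_withCol]; exact h)
    have hB : (withCol v hv 0)⁻¹ * c * withCol v hv 0 ∈ Bor F := mem_Bor.mpr h1.1
    have hx := exists_upp hB
    exact ⟨Units.mk0 _ (ne_zero_of_mem_Bor hB), _, isConj_iff.2 ⟨withCol v hv 0, by
      rw [← hx]; group⟩⟩

theorem upp_zero_pow (a : Fˣ) (n : ℕ) : (upp a 0 : SL) ^ n = upp (a ^ n) 0 := by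
  induction n with
  | zero => rw [pow_zero, pow_zero, upp_one_zero]
  | succ n ih =>
    rw [pow_succ, ih, pow_succ]
    apply Matrix.SpecialLinearGroup.ext
    intro i j
    rw [Matrix.SpecialLinearGroup.coe_mul, coe_upp, coe_upp, coe_upp]
    (revert i j; simp only [Matrix.mul_apply, mul_comm, _root_.Fin.forall_fin_succ, _root_.Units.val_pow_eq_pow_val, _root_.Units.val_inv_eq_inv_val, _root_.Matrix.of_apply, _root_.Matrix.cons_val', _root_.Matrix.cons_val_fin_one, _root_.Fin.sum_univ_two, Fin.isValue, _root_.Matrix.cons_val_zero, _root_.Matrix.cons_val_one, _root_.Units.val_mul, _root_.mul_inv_rev, _root_.MulZeroClass.zero_mul, _root_.add_zero, _root_.Matrix.cons_val_succ, _root_.zero_add, _root_.forall_const, _root_.MulZeroClass.mul_zero, _root_.and_self, _root_.implies_true])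

theorem isConj_split {a : Fˣ} (ha : a⁻¹ ≠ a) (x : F) : IsConj (upp a x : SL) (upp a 0) := by
  have hd : (a : F) - ((a⁻¹ : Fˣ) : F) ≠ 0 := by
    intro h
    exact ha (Units.ext (sub_eq_zero.1 h).symm)
  rw [isConj_iff]
  obtain ⟨y, hy⟩ : ∃ y : F, y * ((a : F) - ((a⁻¹ : Fˣ) : F)) = x := ⟨_, div_mul_cancel₀ x hd⟩
  refine ⟨upp 1 y, ?_⟩
  rw [mul_inv_eq_iff_eq_mul]
  apply Matrix.SpecialLinearGroup.ext
  intro i j
  rw [Matrix.SpecialLinearGroup.coe_mul, Matrix.SpecialLinearGroup.coe_mul, coe_upp, coe_upp, coe_upp]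
  rw [← hy]
  (revert i j; simp only [Matrix.mul_apply, _root_.Fin.forall_fin_succ, _root_.Units.val_one, _root_.inv_one, _root_.Units.val_inv_eq_inv_val, _root_.Matrix.of_apply, _root_.Matrix.cons_val', _root_.Matrix.cons_val_fin_one, _root_.Fin.sum_univ_two, Fin.isValue, _root_.Matrix.cons_val_zero, _root_.Matrix.cons_val_one, _root_.MulZeroClass.mul_zero, _root_.add_zero, _root_.mul_one, _root_.Matrix.cons_val_succ, _root_.forall_const, _root_.one_mul, _root_.MulZeroClass.zero_mul, _root_.zero_add, _root_.implies_true, _root_.and_true, _root_.true_and]) <;> (repeat' with_reducible apply And.intro)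
  ring

theorem orderOf_split {a : Fˣ} (ha : a⁻¹ ≠ a) (x : F) : orderOf (upp a x : SL) = orderOf a := by
  rw [orderOf_of_isConj (isConj_split ha x)]
  have key : ∀ n : ℕ, (upp a 0 : SL) ^ n = 1 ↔ a ^ n = 1 := by
    intro n
    rw [upp_zero_pow, ← upp_one_zero]
    exact ⟨fun h => (upp_inj h).1, fun h => by rw [h]⟩
  exact orderOf_eq_orderOf_iff.2 key

/-- the character values as a function of the order -/
def val (q n : ℕ) : ℤ :=
  if n = 1 then q - 1 else if n = 2 then -(q - 1) else if n = 3 then -1 else if n = 6 then 1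
  else if n ∣ q - 1 then 0 else if 4 ∣ n then 0 else if 2 ∣ n then 2 else -2

variable {g : Matrix.SpecialLinearGroup (Fin 2) F}

theorem order_two_eq (hg : Ell (g : M₂)) {y : SL}
    (hy : y ∈ Subgroup.centralizer ({g} : Set SL)) (h : y ^ 2 = 1) (h1 : y ≠ 1) : y = z0 := by
  have hns : ¬ NS (y : M₂) := by
    intro hns
    apply ne_inv_of_NS hg hy hns
    rw [eq_inv_iff_mul_eq_one, ← sq, h]
  rcases scalar_cases hns with h | h
  · exact absurd (h.trans upp_one_zero) h1
  · exact h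

/-- the value `-(t + t⁻¹)` -/
theorem torus_val {t : ℂˣ} {n : ℕ} (h4 : t ^ 4 = 1) (hn : t ^ n = 1) (hz : 2 ∣ n → (t : ℂ) ^ (n / 2) = -1) :
    -((t : ℂ) + ((t⁻¹ : ℂˣ) : ℂ)) = ((if 4 ∣ n then 0 else if 2 ∣ n then 2 else -2 : ℤ) : ℂ) := by
  have h4' : (t : ℂ) ^ 4 = 1 := by rw [← Units.val_pow_eq_pow_val, h4, Units.val_one]
  have hn' : (t : ℂ) ^ n = 1 := by rw [← Units.val_pow_eq_pow_val, hn, Units.val_one]
  have hinv : (t : ℂ) * ((t⁻¹ : ℂˣ) : ℂ) = 1 := by simp
  by_cases hd : 4 ∣ n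
  · rw [if_pos hd]
    obtain ⟨m, rfl⟩ := hd
    have h := hz ⟨2 * m, by ring⟩
    rw [show 4 * m / 2 = 2 * m by omega, pow_mul] at h
    have h5 : ((t : ℂ) ^ 2 - 1) * ((t : ℂ) ^ 2 + 1) = 0 := by linear_combination h4'
    rcases mul_eq_zero.1 h5 with h6 | h6
    · rw [sub_eq_zero.1 h6, one_pow] at h
      norm_num at h
    · have : (t : ℂ) * ((t : ℂ) + ((t⁻¹ : ℂˣ) : ℂ)) = 0 := by linear_combination h6 + hinv
      have h0 := (mul_eq_zero.1 this).resolve_left t.ne_zero
      rw [h0]; simp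
  · rw [if_neg hd]
    by_cases hd2 : 2 ∣ n
    · rw [if_pos hd2]
      have h := hz hd2
      obtain ⟨m, rfl⟩ := hd2
      have hodd : m % 2 = 1 := by omega
      obtain ⟨k, hk⟩ : ∃ k, m = 2 * k + 1 := ⟨m / 2, by omega⟩
      subst hk
      have e : (t : ℂ) ^ 2 = 1 := by
        have : (t : ℂ) ^ (2 * (2 * k + 1)) = ((t : ℂ) ^ 4) ^ k * (t : ℂ) ^ 2 := by ring
        rw [this, h4', one_pow, one_mul] at hn'
        exact hn'
      rw [show 2 * (2 * k + 1) / 2 = 2 * k + 1 by (clear * -; omega), pow_succ, pow_mul, e, one_pow, one_mul] at h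
      rw [h] at hinv ⊢
      have h7 : ((t⁻¹ : ℂˣ) : ℂ) = -1 := by linear_combination -hinv
      rw [h7]; norm_num
    · rw [if_neg hd2]
      have e : (t : ℂ) = 1 := by
        have hcop : Nat.Coprime 4 n := by
          have : Nat.Coprime 2 n := (Nat.prime_two.coprime_iff_not_dvd).2 hd2
          exact Nat.Coprime.pow_left 2 this
        have h8 : t ^ (Nat.gcd 4 n) = 1 := pow_gcd_eq_one.2 ⟨h4, hn⟩
        rw [hcop, pow_one] at h8
        rw [h8, Units.val_one]
      rw [e] at hinv ⊢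
      have h7 : ((t⁻¹ : ℂˣ) : ℂ) = 1 := by linear_combination hinv
      rw [h7]; norm_num

theorem X_eq_val [CharP F 3] (hg : Ell (g : M₂))
    {θ : Subgroup.centralizer ({g} : Set SL) →* ℂˣ} {α : MulChar F ℂ} (hα : α (-1) = -1)
    (hz : (θ ⟨z0, z0_mem g⟩ : ℂ) = -1) (h4 : ∀ x, θ x ^ 4 = 1) (c : SL) :
    X θ α c = (val (Fintype.card F) (orderOf c) : ℂ) := by
  have h2 : ringChar F ≠ 2 := by
    rw [ringChar.eq F 3]
    norm_num
  have h3 : 3 ∣ Fintype.card F := by
    obtain ⟨n, -, hn⟩ := FiniteField.card F 3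
    rw [hn]
    exact dvd_pow_self 3 n.ne_zero
  have hq1 : 1 < Fintype.card F := Fintype.one_lt_card
  have hpar : α (-1) = (θ ⟨z0, z0_mem g⟩ : ℂ) := by rw [hα, hz]
  have hcl := isClassFunction_X (g := g) θ α
  have hcj : ∀ {a b : SL}, IsConj a b → X θ α a = X θ α b := by
    intro a b hab
    obtain ⟨x, rfl⟩ := isConj_iff.1 hab
    exact (hcl _ _).symm
  rcases elt_cases h2 hg c with ⟨a, x, hx⟩ | ⟨k, hk, hkc, hNS⟩
  · rw [← hcj hx, ← orderOf_of_isConj hx]
    by_cases ha : a⁻¹ = a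
    · rcases inv_eq_self_cases ha with rfl | rfl
      · by_cases hx0 : x = 0
        · subst hx0
          rw [upp_one_zero, orderOf_one, X_one hg]
          simp [val]
        · rw [orderOf_upp_one 3 hx0, X_upp_ne hg θ α inv_one hx0]
          simp [val]
      · by_cases hx0 : x = 0
        · subst hx0
          have ho : orderOf (upp (-1) 0 : SL) = 2 := orderOf_eq_prime (by rw [sq]; exact z0_mul_self) (z0_ne_one h2)
          have hv := X_z0 (g := g) hg hpar
          rw [show (z0 : SL) = upp (-1) 0 from rfl] at hv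
          rw [ho, hv, hα]
          simp [val]
        · have hx0' : -x ≠ 0 := neg_ne_zero.2 hx0
          have e : (upp (-1) x : SL) = z0 * upp 1 (-x) := by rw [z0_mul_upp, neg_neg]
          have ho : orderOf (upp (-1) x : SL) = 6 := by
            have h2' : orderOf (z0 : SL) = 2 := orderOf_eq_prime (by rw [sq]; exact z0_mul_self) (z0_ne_one h2)
            have h3' := orderOf_upp_one (F := F) 3 hx0'
            rw [e, Commute.orderOf_mul_eq_mul_orderOf_of_coprime (z0_comm _) (by rw [h2', h3']; norm_num), h2', h3']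
          rw [ho, X_upp_ne hg θ α neg_one_inv hx0]
          simp [val, hα]
    · rw [X_upp_split hg θ α ha, orderOf_split ha]
      have hd : orderOf a ∣ Fintype.card F - 1 := by
        rw [← Fintype.card_units]
        exact orderOf_dvd_card
      have n1 : orderOf a ≠ 1 := by
        intro h
        rw [orderOf_eq_one_iff] at h
        subst h
        exact ha inv_one
      have n2 : orderOf a ≠ 2 := by
        intro h
        apply ha
        rw [inv_eq_iff_mul_eq_one, ← sq, ← h, pow_orderOf_eq_one]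
      have n3 : ¬ 3 ∣ orderOf a := by
        intro h
        have := h.trans hd
        omega
      have n3' : orderOf a ≠ 3 := fun h => n3 (by rw [h])
      have n6 : orderOf a ≠ 6 := fun h => n3 (by rw [h]; norm_num)
      rw [val, if_neg n1, if_neg n2, if_neg n3', if_neg n6, if_pos hd, Int.cast_zero]
  · rw [← hcj hkc, ← orderOf_of_isConj hkc, X_ell hg θ α hk hNS]
    set n := orderOf k with hn
    have hd : n ∣ Fintype.card F + 1 := by
      rw [← card_cent_ell g hg, hn, ← Subgroup.orderOf_mk k hk]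
      exact orderOf_dvd_natCard _
    have n1 : n ≠ 1 := by
      intro h
      rw [hn, orderOf_eq_one_iff] at h
      subst h
      exact not_NS_upp (F := F) inv_one (by rw [upp_one_zero]; exact hNS)
    have n2 : n ≠ 2 := by
      intro h
      apply ne_inv_of_NS hg hk hNS
      have h5 := pow_orderOf_eq_one k
      rw [← hn, h] at h5
      rw [eq_inv_iff_mul_eq_one, ← sq, h5]
    have n3 : ¬ 3 ∣ n := by
      intro h
      have := h.trans hd
      omega
    have n3' : n ≠ 3 := fun h => n3 (by rw [h])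
    have n6 : n ≠ 6 := fun h => n3 (by rw [h]; norm_num)
    have nq : ¬ n ∣ Fintype.card F - 1 := by
      intro h
      have h5 := Nat.dvd_sub hd h
      rw [show Fintype.card F + 1 - (Fintype.card F - 1) = 2 by omega] at h5
      have h6 := Nat.le_of_dvd (by norm_num) h5
      have h7 : n ≠ 0 := by
        rintro h0
        rw [h0] at h5
        omega
      omega
    rw [val, if_neg n1, if_neg n2, if_neg n3', if_neg n6, if_neg nq]
    refine torus_val (h4 _) ?_ ?_
    · rw [← map_pow]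
      have : (⟨k, hk⟩ : Subgroup.centralizer ({g} : Set SL)) ^ n = 1 := by
        apply Subtype.ext
        simp only [hn, pow_orderOf_eq_one, _root_.SubmonoidClass.mk_pow, _root_.OneMemClass.coe_one]
      rw [this, map_one]
    · intro h2n
      have hk2 : k ^ (n / 2) = z0 := by
        apply order_two_eq hg (pow_mem hk _)
        · rw [← pow_mul, Nat.div_mul_cancel h2n, hn, pow_orderOf_eq_one]
        · intro h
          have h5 := orderOf_dvd_of_pow_eq_one h
          rw [← hn] at h5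
          have hpos : 0 < n := orderOf_pos k
          have h6 := Nat.le_of_dvd (by omega) h5
          omega
      rw [← Units.val_pow_eq_pow_val, ← map_pow]
      have : (⟨k, hk⟩ : Subgroup.centralizer ({g} : Set SL)) ^ (n / 2) = ⟨z0, z0_mem g⟩ := by
        apply Subtype.ext
        simp [hk2]
      rw [this, hz]

theorem card_mod_eight [CharP F 3] (h4 : Fintype.card F % 4 = 3) : Fintype.card F % 8 = 3 := by
  obtain ⟨n, -, hn⟩ := FiniteField.card F 3
  rw [hn] at h4 ⊢
  have key : ∀ m : ℕ, 3 ^ m % 8 = 1 ∨ 3 ^ m % 8 = 3 := by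
    intro m
    induction m with
    | zero => left; norm_num
    | succ m ih => rw [pow_succ]; omega
  rcases key n with h | h <;> omega

theorem exists_theta (h2 : ringChar F ≠ 2) (h8 : Fintype.card F % 8 = 3) (hg : Ell (g : M₂)) :
    ∃ θ : Subgroup.centralizer ({g} : Set SL) →* ℂˣ, (θ ⟨z0, z0_mem g⟩ : ℂ) = -1 ∧ (∀ x, θ x ^ 4 = 1) ∧
      θ ^ 2 ≠ 1 := by
  have hcyc := isCyclic_cent g hg
  have hcard := card_cent_ell g hg
  obtain ⟨γ, hγ⟩ := IsCyclic.exists_generator (α := Subgroup.centralizer ({g} : Set SL))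
  have ho : orderOf γ = Fintype.card F + 1 := by
    rw [← hcard]
    exact orderOf_eq_card_of_forall_mem_zpowers hγ
  let i : ℂˣ := Units.mk0 Complex.I Complex.I_ne_zero
  have hi : (i : ℂ) = Complex.I := rfl
  have hi2 : (i : ℂ) ^ 2 = -1 := by rw [hi, Complex.I_sq]
  have hi4 : i ^ 4 = 1 := by
    apply Units.ext
    rw [Units.val_pow_eq_pow_val, Units.val_one, show (4 : ℕ) = 2 * 2 by norm_num, pow_mul, hi2]
    norm_num
  have hord : orderOf i ∣ orderOf γ := by
    refine (orderOf_dvd_of_pow_eq_one hi4).trans ?_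
    rw [ho]
    omega
  let θ := monoidHomOfForallMemZpowers hγ hord
  have hθγ : θ γ = i := monoidHomOfForallMemZpowers_apply_gen hγ hord
  refine ⟨θ, ?_, ?_, ?_⟩
  · obtain ⟨j, hj⟩ := Subgroup.mem_zpowers_iff.1 (hγ ⟨z0, z0_mem g⟩)
    have hz1 : (⟨z0, z0_mem g⟩ : Subgroup.centralizer ({g} : Set SL)) ≠ 1 := by
      intro h
      exact z0_ne_one h2 (congrArg Subtype.val h)
    have hz2 : (⟨z0, z0_mem g⟩ : Subgroup.centralizer ({g} : Set SL)) ^ 2 = 1 := by
      apply Subtype.ext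
      simp only [sq, z0_mul_self, _root_.MulMemClass.mk_mul_mk, _root_.OneMemClass.coe_one]
    have e1 : ((Fintype.card F + 1 : ℕ) : ℤ) ∣ j * 2 := by
      rw [← ho, orderOf_dvd_iff_zpow_eq_one, _root_.zpow_mul, hj]
      exact_mod_cast hz2
    have e2 : ¬ ((Fintype.card F + 1 : ℕ) : ℤ) ∣ j := by
      rw [← ho, orderOf_dvd_iff_zpow_eq_one, hj]
      exact hz1
    rw [← hj, map_zpow, hθγ, Units.val_zpow_eq_zpow_val]
    obtain ⟨k, hk⟩ : ∃ k : ℤ, ((Fintype.card F + 1 : ℕ) : ℤ) = 4 * (2 * k + 1) := by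
      refine ⟨((Fintype.card F / 8 : ℕ) : ℤ), ?_⟩
      have := Nat.div_add_mod (Fintype.card F) 8
      omega
    rw [hk] at e1 e2
    obtain ⟨t, ht⟩ := e1
    have hj2 : j = 2 * ((2 * k + 1) * t) := by linarith only [ht]
    have htodd : Odd t := by
      by_contra hne
      rw [Int.not_odd_iff_even] at hne
      obtain ⟨s, rfl⟩ := hne
      apply e2
      exact ⟨s, by rw [hj2]; ring⟩
    have hodd : Odd ((2 * k + 1) * t) := Odd.mul ⟨k, rfl⟩ htodd
    rw [hj2, _root_.zpow_mul, show (i : ℂ) ^ (2 : ℤ) = -1 by exact_mod_cast hi2]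
    exact hodd.neg_one_zpow
  · intro x
    obtain ⟨j, hj⟩ := Subgroup.mem_zpowers_iff.1 (hγ x)
    rw [← hj, map_zpow, hθγ, ← zpow_natCast, ← _root_.zpow_mul, mul_comm, _root_.zpow_mul, zpow_natCast, hi4, _root_.one_zpow]
  · intro h
    have h1 : (θ γ) ^ 2 = 1 := by rw [← MonoidHom.pow_apply, h, MonoidHom.one_apply]
    rw [hθγ] at h1
    have h3 : (i : ℂ) ^ 2 = 1 := by rw [← Units.val_pow_eq_pow_val, h1, Units.val_one]
    rw [hi2] at h3
    norm_num at h3

/-- **The rational character of degree `q - 1`**, `q = 3 ^ f`, `f` odd. -/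
theorem exists_rat [CharP F 3] (h4 : Fintype.card F % 4 = 3) :
    ∃ ψ : SL → ℂ, IsIrrCharacter SL ψ ∧ ψ 1 = (Fintype.card F : ℂ) - 1 ∧ (∀ x, ψ (z0 * x) = -ψ x) ∧
      ∀ x, ψ x = (val (Fintype.card F) (orderOf x) : ℂ) := by
  have h2 : ringChar F ≠ 2 := by
    rw [ringChar.eq F 3]
    norm_num
  obtain ⟨g, hg⟩ := exists_ell (F := F)
  obtain ⟨θ, hz, ht4, ht2⟩ := exists_theta h2 (card_mod_eight h4) hg
  obtain ⟨α, hα, -⟩ := exists_alpha (F := F) h2 (ε := -1) (Or.inr rfl)
  have hpar : α (-1) = (θ ⟨z0, z0_mem g⟩ : ℂ) := by rw [hα, hz]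
  have hirr := isIrr_X h2 hg hpar ht2
  refine ⟨X θ α, hirr, X_one hg θ α, ?_, X_eq_val hg hα hz ht4⟩
  intro x
  obtain ⟨ε, -, hε⟩ := exists_parity hirr
  have h3 := hε 1
  rw [mul_one, X_z0 hg hpar, X_one hg, hα] at h3
  have h5 : ε = -1 := by
    have h6 : ((Fintype.card F : ℂ) - 1) ≠ 0 := by
      rw [sub_ne_zero]
      exact_mod_cast (Fintype.one_lt_card (α := F)).ne'
    apply mul_right_cancel₀ h6
    linear_combination -h3
  rw [hε, h5, neg_one_mul]

end

theorem pratC_of_int {G : Type*} {ψ : G → ℂ} {v : G → ℤ} (h : ∀ x, ψ x = (v x : ℂ)) : PRatC 3 ψ := by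
  refine ⟨1, by norm_num, fun x => ?_⟩
  rw [h]
  exact intCast_mem _ _

theorem slTask : SLTask.{u} := by
  intro E _ _ Z hZ hZ3 hE F _ _ _ h4 h3 hf ν
  classical
  obtain ⟨f, hfs, hfk⟩ := hf
  by_cases hν : ν = 1
  · refine ⟨1, Cfsg.Agent.Characters.Core.isIrr_one, ?_, ?_, ?_, ?_⟩
    · intro z x
      rw [hν]
      simp
    · have : charDegree (1 : E → ℂ) = 1 := by simp [charDegree]
      rw [this]
      norm_num
    · exact pratC_of_int (v := fun _ => 1) (by intro x; simp)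
    · intro α _ _ x
      rfl
  have hqd : 3 ∣ Fintype.card F := by
    obtain ⟨n, -, hn⟩ := FiniteField.card F 3
    rw [hn]
    exact dvd_pow_self 3 n.ne_zero
  have h2 : ringChar F ≠ 2 := by
    rw [ringChar.eq F 3]
    norm_num
  have hok : Cfsg.Agent.H60.MultA.Ok 2 (Nat.card F) := by
    rw [Nat.card_eq_fintype_card]
    refine ⟨le_rfl, fun _ => by omega, ?_⟩
    simp only [Set.mem_insert_iff, Set.mem_singleton_iff, Prod.mk.injEq, not_or, not_and]
    refine ⟨fun _ => by omega, fun _ => by omega, fun h => by omega, fun h => by omega, fun h => by omega⟩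
  let π : Matrix.SpecialLinearGroup (Fin 2) F →* Matrix.ProjectiveSpecialLinearGroup (Fin 2) F :=
    QuotientGroup.mk' (Subgroup.center (Matrix.SpecialLinearGroup (Fin 2) F))
  have hπs : Function.Surjective π := QuotientGroup.mk'_surjective _
  have hπk : π.ker = Subgroup.center (Matrix.SpecialLinearGroup (Fin 2) F) := QuotientGroup.ker_mk' _
  obtain ⟨φ, hφ⟩ := H487.exists_lift_of_trivial ⟨Cfsg.Agent.H60.MultA.perfect_SL hok⟩
    (Cfsg.Agent.H60.MultA.hasTrivial_SL hok) π hfs (by rw [hfk]; exact hZ)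
  have hstem : Cfsg.IsStemExtension f := ⟨hfs, by rw [hfk]; exact hZ, by rw [hE]; exact le_top⟩
  have hφs : Function.Surjective φ := by
    have h1 := H487.commutator_eq_map_of_central (τ := f) (φ := φ) (by rw [hfk]; exact hZ) (by rw [hφ]; exact hπs)
    rw [hE, Cfsg.Agent.H60.MultA.perfect_SL hok, ← MonoidHom.range_eq_map] at h1
    exact MonoidHom.range_eq_top.1 h1.symm
  have hcent : ∀ y : Matrix.SpecialLinearGroup (Fin 2) F, y ∈ Subgroup.center (Matrix.SpecialLinearGroup (Fin 2) F) →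
      y = 1 ∨ y = z0 := by
    intro y hy
    rcases scalar_cases (not_NS_of_mem_center' hy) with h | h
    · left
      rw [h, upp_one_zero]
    · right
      exact h
  have hZφ : ∀ z ∈ Z, z = 1 ∨ z = φ z0 := by
    intro z hz
    obtain ⟨y, rfl⟩ := hφs z
    have hy : y ∈ Subgroup.center (Matrix.SpecialLinearGroup (Fin 2) F) := by
      rw [← hπk, MonoidHom.mem_ker, ← hφ, MonoidHom.comp_apply, ← MonoidHom.mem_ker, hfk]
      exact hz
    rcases hcent y hy with rfl | rfl
    · left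
      exact map_one φ
    · right
      rfl
  have hz0Z : φ z0 ∈ Z := by
    rw [← hfk, MonoidHom.mem_ker, ← MonoidHom.comp_apply, hφ, ← MonoidHom.mem_ker, hπk]
    exact z0_mem_center
  have hz01 : φ z0 ≠ 1 := by
    intro h
    apply hν
    ext ⟨z, hz⟩
    have : (⟨z, hz⟩ : Z) = 1 := by
      apply Subtype.ext
      rcases hZφ z hz with h1 | h1
      · exact h1
      · exact h1.trans h
    rw [this, map_one, map_one]
  have hφi : Function.Injective φ := by
    rw [injective_iff_map_eq_one]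
    intro y hy
    have hyc : y ∈ Subgroup.center (Matrix.SpecialLinearGroup (Fin 2) F) := by
      rw [← hπk, MonoidHom.mem_ker, ← hφ, MonoidHom.comp_apply, hy, map_one]
    rcases hcent y hyc with h | rfl
    · exact h
    · exact absurd hy hz01
  let e : Matrix.SpecialLinearGroup (Fin 2) F ≃* E := MulEquiv.ofBijective φ ⟨hφi, hφs⟩
  have he : ∀ x, e x = φ x := fun _ => rfl
  obtain ⟨ψ, hirr, h1, hneg, hval⟩ := exists_rat (F := F) h4
  have ho : ∀ x : E, orderOf (e.symm x) = orderOf x := fun x => e.symm.orderOf_eq x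
  refine ⟨ψ ∘ e.symm, ?_, ?_, ?_, ?_, ?_⟩
  · exact Cfsg.Agent.Characters.Core.isIrr_comp e.symm.toMonoidHom e.symm.surjective hirr
  · rintro ⟨z, hz⟩ x
    rcases hZφ z hz with rfl | rfl
    · have : (⟨1, hz⟩ : Z) = 1 := rfl
      rw [this, map_one]
      simp
    · have hν1 : (ν ⟨φ z0, hz⟩ : ℂ) = -1 := by
        have hsq : ν ⟨φ z0, hz⟩ * ν ⟨φ z0, hz⟩ = 1 := by
          rw [← map_mul]
          have : (⟨φ z0, hz⟩ : Z) * ⟨φ z0, hz⟩ = 1 := by
            apply Subtype.ext
            change φ z0 * φ z0 = 1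
            rw [← map_mul, z0_mul_self, map_one]
          rw [this, map_one]
        have hsq' : (ν ⟨φ z0, hz⟩ : ℂ) * (ν ⟨φ z0, hz⟩ : ℂ) = 1 := by
          rw [← Units.val_mul, hsq, Units.val_one]
        rcases mul_self_eq_one_iff.1 hsq' with h | h
        · exfalso
          apply hν
          ext ⟨z, hz'⟩
          rcases hZφ z hz' with rfl | rfl
          · have : (⟨1, hz'⟩ : Z) = 1 := rfl
            rw [this, map_one, map_one]
          · simpa using h
        · exact h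
      simp only [Function.comp_apply]
      rw [hν1, map_mul]
      have : e.symm (φ z0) = z0 := by rw [← he, e.symm_apply_apply]
      rw [this, ← z0_comm, hneg]
      ring
  · have hdeg : charDegree (ψ ∘ e.symm) = Fintype.card F - 1 := by
      have h0 : (ψ ∘ e.symm) 1 = ((Fintype.card F - 1 : ℕ) : ℂ) := by
        rw [Function.comp_apply, map_one, h1, Nat.cast_sub (Fintype.card_pos (α := F)), Nat.cast_one]
      rw [charDegree, h0]
      simp only [_root_.Complex.natCast_re, _root_.Nat.floor_natCast]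
    rw [hdeg]
    (clear * - h3 hqd hφi; omega)
  · exact pratC_of_int (v := fun x => val (Fintype.card F) (orderOf (e.symm x))) (fun x => hval _)
  · intro α _ _ x
    simp only [Function.comp_apply]
    rw [hval, hval, ho, ho, α.orderOf_eq]

end Cfsg.Agent.H775.RatB
end

-- part: H846/RatB/FullTab
section
/-!
# Lemma L from the table of `H663.GmnStep` (S4891, TEAM B0-RAT)
-/

set_option autoImplicit false

namespace Cfsg.Agent.H846.RatB

open Cfsg

universe u

theorem lemL_of_tab {p : ℕ} [Fact p.Prime] (hp2 : p ≠ 2) (hT : H663.GmnStep.Tab.{u} p) : H627.BR.LemL.{u} p := by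
  intro G _ _ P N _ hs ψ hdeg hrat hinv
  exact lemmaL hp2 (Cfsg.Agent.H921.RatB.layer_of_tab hT Cfsg.Agent.H775.RatB.slTask) P N hs ψ hdeg hrat hinv

end Cfsg.Agent.H846.RatB
end

private theorem dce_b7d27dd516ce : _root_.True := by
  try have : _root_.True := by simp only [_root_.Cfsg.Agent.H921.RatB.ES.eq_1]
  try have : _root_.True := by simp only [_root_.Cfsg.Agent.H775.RatB.val.eq_1]
  try have : _root_.True := by simp only [_root_.Cfsg.Agent.H984.SLTwo.NS.eq_1]
  try have : _root_.True := by simp only [_root_.Cfsg.Agent.H921.RatB.cj.congr_simp]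
  exact _root_.True.intro
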